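import Cfsg.Agent.KCl.Rho

/-! Completely reducible modules with a fixed point free central element of prime order. -/

set_option autoImplicit false

namespace Cfsg.Lib.KCl

open Subgroup Cfsg.Lib.Base Cfsg.Lib.Base.Setup Polynomial

universe u

/-- The index of the annihilator of the operator `z`. -/
noncomputable def rho (V : Type*) {G : Type*} [Group G] [AddCommGroup V] [DistribMulAction G V]
    (z : G) : ℕ := (ann (DistribMulAction.toModuleEnd ℤ V z)).index

theorem le_rho {G V : Type*} [Group G] [AddCommGroup V] [DistribMulAction G V] [Finite V]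
    [Nontrivial V] {p : ℕ} (hp : p.Prime) {z : G} (h1 : z ^ p = 1)
    (h2 : ∀ v : V, z • v = v → v = 0) : p ≤ rho V z := by
  have := Fact.mk hp
  have h3 : orderOf (DistribMulAction.toModuleEnd ℤ V z) = p :=
    orderOf_eq_prime (by rw [← map_pow, h1, map_one]) fun e => by
      obtain ⟨v, hv⟩ := exists_ne (0 : V)
      exact hv (h2 v (LinearMap.congr_fun e v))
  refine le_trans (by simp) (le_index_ann _ (fun i : Fin p => X ^ (i : ℕ)) fun i j e => ?_)
  simp only [map_pow, aeval_X] at e
  exact Fin.ext (pow_injOn_Iio_orderOf (h3 ▸ i.2) (h3 ▸ j.2) e)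

theorem exists_pow_mem {G V : Type*} [Group G] [AddCommGroup V] [DistribMulAction G V]
    {H : Subgroup G} {W W' : AddSubgroup V} (hd : Disjoint W W')
    (hout : ∀ g ∉ H, ∀ w ∈ W, g • w ∈ W') (hW0 : W ≠ ⊥) {p : ℕ} (hp : p.Prime) {z : G}
    (h1 : z ^ p = 1) (h2 : ∀ v : V, z • v = v → v = 0) : z ∈ H := by
  by_contra hz
  obtain ⟨⟨w, hw⟩, hw0⟩ := AddSubgroup.ne_bot_iff_exists_ne_zero.1 hW0
  obtain ⟨k, rfl⟩ := Nat.exists_eq_add_of_le' hp.pos
  have h3 := h2 (∑ i ∈ Finset.range (k + 1), z ^ i • w) (by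
    rw [Finset.smul_sum]
    simp only [← mul_smul, ← pow_succ']
    rw [Finset.sum_range_succ, h1, Finset.sum_range_succ', pow_zero])
  rw [Finset.sum_range_succ', pow_zero, one_smul, add_eq_zero_iff_neg_eq] at h3
  refine hw0 (Subtype.ext ((AddSubgroup.disjoint_def.1 hd) hw ?_))
  have h5 : ∀ i ∈ Finset.range k, z ^ (i + 1) • w ∈ W' := fun i hi => hout _ (fun h => hz ?_) w hw
  · have h6 := neg_mem (sum_mem h5)
    rwa [h3] at h6
  have h4 : (orderOf z).Coprime (i + 1) := Nat.Coprime.coprime_dvd_left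
    (orderOf_dvd_of_pow_eq_one h1) (Nat.coprime_of_lt_prime (by omega)
      (by have := Finset.mem_range.1 hi; omega) hp)
  obtain ⟨m, hm⟩ := exists_pow_eq_self_of_coprime h4.symm
  exact hm ▸ pow_mem h m

variable {G V : Type u} [Group G] [Finite G] [AddCommGroup V] [Finite V] [DistribMulAction G V]
  [FaithfulSMul G V] {p : ℕ}

theorem rho_le_of_prim (hp : p.Prime) (h11 : 11 ≤ p) (hG : Group.IsSolvable G) (h : Prim G V)
    {z : G} (hz : z ∈ center G) (h1 : z ^ p = 1) (h2 : ∀ v : V, z • v = v → v = 0) :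
    (rho V z : ℚ) ≤ commProb G * Nat.card V := by
  obtain ⟨K, _, _, _, Γ, _, _, _, _, _, S, φ, hφ, hZ⟩ := exists_setup_center h
  have := h.1.1
  have hi : Function.Injective φ := fun a b e =>
    FaithfulSMul.eq_of_smul_eq_smul (α := V) fun v => by rw [← hφ, ← hφ, e]
  obtain ⟨L, f, hK, hc, hL⟩ := exists_fixed S φ
  obtain ⟨u, hu⟩ := hZ z hz
  have hu' : ∀ v : V, z • v = (u : K) • v := fun v => by rw [← hφ, ← hu, S.ι_smul]
  have a0 : rho V z ≤ Nat.card L := index_ann_le_card L (hL u fun g v => by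
    rw [← hu', ← hu', hφ, hφ, ← mul_smul, ← mul_smul, mem_center_iff.1 hz]) hu'
  have hQ : 11 ≤ Nat.card L := h11.trans ((le_rho hp h1 h2).trans a0)
  refine le_trans (Nat.cast_le.2 a0) ?_
  have hV := Module.natCard_eq_pow_finrank (K := K) (V := V)
  rw [hK, ← pow_mul] at hV
  have hf : 0 < f := Nat.pos_of_ne_zero fun e => by
    rw [e, pow_zero] at hK
    exact Finite.one_lt_card.ne' hK
  obtain ⟨e, e0, en, h3, h8, hpr, h4, h5⟩ := setup_num S
  have := S.normal
  have a1 := le_cp_three (QuotientGroup.mk' (S.U.subgroupOf S.A))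
    (QuotientGroup.mk'_surjective _) (by rw [QuotientGroup.ker_mk']; exact U_le_center S)
  have a2 := cp_le_of_injective (φ.subgroupComap S.A) fun a b e =>
    Subtype.ext (hi (congrArg Subtype.val e))
  have a3 : commProb S.A ≤ commProb G * (f : ℚ) ^ 2 := a2.trans ((commProb_subgroup_le _).trans
    (mul_le_mul_of_nonneg_left (pow_le_pow_left₀ (by positivity) (by exact_mod_cast hc) 2)
      (commProb_pos G).le))
  have a4 := a1.trans a3
  have a5 : (11 : ℚ) ≤ Nat.card L := by exact_mod_cast hQ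
  have a6 : 1 ≤ S.U.relIndex S.A := Nat.card_pos
  rw [hV]
  rcases num_main' hQ hf (commProb_pos G).le a6 a4
    e0 en (fun e3 => by rw [← hK, ← Nat.card_units]; exact h3 3 Nat.prime_three (e3 ▸ dvd_rfl))
    h8 hpr h4 (fun e2 => (h5 e2).imp_right And.left) with ⟨b1, b2⟩ | b | ⟨b1, b2, b3, b4⟩
  · obtain rfl : e = 1 := by omega
    rw [show Nat.card (S.A ⧸ S.U.subgroupOf S.A) = 1 from le_antisymm (h8.trans_eq (one_pow 8)) a6,
      b1] at a4
    rw [b1, b2]
    norm_num at a4 ⊢
    nlinarith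
  · push_cast
    nlinarith
  · rw [show Nat.card (S.A ⧸ S.U.subgroupOf S.A) = 24 from b4, b1] at a4
    rw [b1, b3]
    norm_num at a4 ⊢
    nlinarith

theorem rho_aux (hp : p.Prime) (h11 : 11 ≤ p) (n : ℕ) : ∀ (G V : Type u) [Group G] [Finite G]
    [AddCommGroup V] [Finite V] [DistribMulAction G V] [FaithfulSMul G V], Nat.card V = n →
    Group.IsSolvable G → CR G V → ∀ z ∈ center G, z ^ p = 1 → (∀ v : V, z • v = v → v = 0) →
      (rho V z : ℚ) ≤ commProb G * Nat.card V := by
  induction n using Nat.strong_induction_on with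
  | _ n ih =>
  intro G V _ _ _ _ _ _ hn hG h z hz h1 h2
  have ih' : ∀ (H W : Type u) [Group H] [AddCommGroup W] [Finite W] [DistribMulAction H W],
      Nat.card W < Nat.card V → Group.IsSolvable H → CR H W → ∀ y ∈ center H, y ^ p = 1 →
      (∀ v : W, y • v = v → v = 0) → (rho W y : ℚ) ≤ commProb (Im H W) * Nat.card W :=
    fun H W _ _ _ _ a b c y d e f => @ih _ (hn ▸ a) (Im H W) W _ _ _ _ (imAct H W) faithful_im rfl
      (isSolvable_im b) c.im ((MulAction.toPermHom H W).rangeRestrict y)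
      (mem_center_iff.2 fun g => by
        obtain ⟨g, rfl⟩ := (MulAction.toPermHom H W).rangeRestrict_surjective g
        rw [← map_mul, ← map_mul, mem_center_iff.1 d])
      (by rw [← map_pow, e, map_one]) f
  rcases subsingleton_or_nontrivial V with hV | hV
  · rw [cp_eq_one fun a b => FaithfulSMul.eq_of_smul_eq_smul (α := V)
      fun _ => Subsingleton.elim _ _, rho, (AddSubgroup.eq_top_iff' (ann _)).2
      fun _ => mem_ann.2 fun _ => Subsingleton.elim _ _]
    simp
  by_cases hi : ¬ Irr G V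
  · obtain ⟨T, hT, b1, b2⟩ : ∃ T : AddSubgroup V, Inv G T ∧ T ≠ ⊥ ∧ T ≠ ⊤ := by
      by_contra hc
      exact hi ⟨hV, fun T hT => by_contra fun h3 => hc ⟨T, hT, not_or.1 h3⟩⟩
    obtain ⟨T', hT', b3, b4⟩ := h T hT
    have lt : ∀ {X : AddSubgroup V}, X ≠ ⊤ → Nat.card X < Nat.card V := fun {X} hX =>
      (AddSubgroup.card_le_card_addGroup X).lt_of_ne fun e => hX (X.eq_top_of_card_eq e)
    let _ := resAct hT
    let _ := resAct hT'
    have c1 := ih' G T (lt b2) hG (h.res hT) z hz h1
      fun v hv => Subtype.ext (h2 _ (congrArg Subtype.val hv))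
    have c2 := ih' G T' (lt fun e => b1 (by simpa [e] using b3)) hG (h.res hT') z hz h1
      fun v hv => Subtype.ext (h2 _ (congrArg Subtype.val hv))
    have c3 : rho V z ≤ rho T z * rho T' z := by
      refine le_trans (Nat.le_of_dvd (Nat.pos_of_ne_zero (AddSubgroup.index_inf_ne_zero
        (index_ann_ne_zero _) (index_ann_ne_zero _))) (AddSubgroup.index_dvd_of_le
          fun g hg => mem_ann.2 fun v => ?_)) AddSubgroup.index_inf_le
      obtain ⟨a, ha, b, hb, rfl⟩ := AddSubgroup.mem_sup.1 (b4 ▸ AddSubgroup.mem_top v)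
      have d1 := map_aeval (a := DistribMulAction.toModuleEnd ℤ V z)
        (b := DistribMulAction.toModuleEnd ℤ T z) T.subtype (fun _ => rfl) g ⟨a, ha⟩
      have d2 := map_aeval (a := DistribMulAction.toModuleEnd ℤ V z)
        (b := DistribMulAction.toModuleEnd ℤ T' z) T'.subtype (fun _ => rfl) g ⟨b, hb⟩
      rw [mem_ann.1 hg.1, map_zero] at d1
      rw [mem_ann.1 hg.2, map_zero] at d2
      rw [map_add]
      exact (congrArg₂ (· + ·) d1.symm d2.symm).trans (add_zero _)
    have c4 := cp_le_of_injective ((MulAction.toPermHom G T).rangeRestrict.prod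
      (MulAction.toPermHom G T').rangeRestrict) fun g g' e =>
        FaithfulSMul.eq_of_smul_eq_smul (α := V) fun v => by
          obtain ⟨a, ha, b, hb, rfl⟩ := AddSubgroup.mem_sup.1 (b4 ▸ AddSubgroup.mem_top v)
          have e1 : g • a = g' • a := congrArg Subtype.val
            (Equiv.congr_fun (congrArg Subtype.val (congrArg Prod.fst e)) ⟨a, ha⟩)
          have e2 : g • b = g' • b := congrArg Subtype.val
            (Equiv.congr_fun (congrArg Subtype.val (congrArg Prod.snd e)) ⟨b, hb⟩)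
          rw [smul_add, smul_add, e1, e2]
    have c5 : Nat.card T * Nat.card T' ≤ Nat.card V := by
      rw [← Nat.card_prod]
      exact Nat.card_le_card_of_injective _
        (AddSubgroup.add_injective_of_disjoint (disjoint_iff.2 b3))
    rw [commProb_prod] at c4
    calc (rho V z : ℚ) ≤ rho T z * rho T' z := by exact_mod_cast c3
      _ ≤ _ := mul_le_mul c1 c2 (by positivity) (le_trans (by positivity) c1)
      _ = commProb (Im G T) * commProb (Im G T') * (Nat.card T * Nat.card T' : ℕ) := by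
        push_cast; ring
      _ ≤ _ := mul_le_mul c4 (Nat.cast_le.2 c5) (by positivity) (commProb_pos G).le
  rw [not_not] at hi
  by_cases hpr : Prim G V
  · exact rho_le_of_prim hp h11 hG hpr hz h1 h2
  obtain ⟨H, W, W', hH, hW, hd, hout, hW0⟩ := exists_blocks hi hpr
  have hzH := exists_pow_mem hd hout hW0 hp h1 h2
  have a1 := pow_le_card hd hout
  have a2 := cp_pow_le hi hW hW0
  have a3 := core_sq_le hG hH
  obtain ⟨s, hs⟩ := Nat.exists_eq_add_of_le' (index_core_le hG hH).1
  let _ := resAct hW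
  have hWi := irr_block hi hW hd hout hW0
  have := hWi.1
  have b1 : (⟨z, hzH⟩ : H) ^ p = 1 := Subtype.ext h1
  have b2 : ∀ v : W, (⟨z, hzH⟩ : H) • v = v → v = 0 :=
    fun v hv => Subtype.ext (h2 _ (congrArg Subtype.val hv))
  have a4 := ih' H W (card_block_lt hH.1 hd hout hW0) inferInstance hWi.cr ⟨z, hzH⟩
    (mem_center_iff.2 fun g => Subtype.ext (mem_center_iff.1 hz g)) b1 b2
  have b3 := h11.trans (le_rho hp b1 b2)
  have b4 : rho V z ≤ rho W (⟨z, hzH⟩ : H) := index_ann_le fun g hg => mem_ann.2 fun v => by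
    let Y : AddSubgroup V := (aeval (DistribMulAction.toModuleEnd ℤ V z) g).toAddMonoidHom.ker
    rcases hi.2 Y (fun a v hv => by
      have := map_aeval (a := DistribMulAction.toModuleEnd ℤ V z)
        (b := DistribMulAction.toModuleEnd ℤ V z) (DistribSMul.toAddMonoidHom V a)
        (fun w => by
          change a • z • w = z • a • w
          rw [← mul_smul, ← mul_smul, mem_center_iff.1 hz]) g v
      rw [show aeval (DistribMulAction.toModuleEnd ℤ V z) g v = 0 from hv, map_zero] at this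
      exact this.symm) with e | e
    · refine absurd (eq_bot_iff.2 fun w hw => e.le ?_) hW0
      have := map_aeval (a := DistribMulAction.toModuleEnd ℤ V z)
        (b := DistribMulAction.toModuleEnd ℤ W (⟨z, hzH⟩ : H)) W.subtype (fun _ => rfl) g ⟨w, hw⟩
      rw [mem_ann.1 hg, map_zero] at this
      exact this.symm
    · exact e.ge (AddSubgroup.mem_top v)
  refine le_trans (Nat.cast_le.2 b4) ?_
  generalize rho W (⟨z, hzH⟩ : H) = Q at a4 b3
  rw [hs] at a1 a2 a3
  have h5 := pow_le_pow_left₀ (by positivity) a4 (s + 2)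
  have h6 : ((Nat.card W : ℚ)) ^ (s + 2) ≤ Nat.card V := by exact_mod_cast a1
  have h7 : (H.normalCore.index : ℚ) ^ 2 ≤ (Q : ℚ) ^ (s + 1) := by
    have := Nat.pow_le_pow_left b3 (s + 1)
    rw [Nat.add_sub_cancel] at a3
    rw [pow_succ] at this
    exact_mod_cast (show H.normalCore.index ^ 2 ≤ Q ^ (s + 1) by omega)
  have h8 := commProb_pos G
  rw [mul_pow] at h5
  replace h5 := h5.trans (mul_le_mul a2 h6 (by positivity) (by positivity))
  have h9 : (0 : ℚ) < (Q : ℚ) ^ (s + 1) := pow_pos (Nat.cast_pos.2 (by omega)) _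
  refine le_of_mul_le_mul_left ?_ h9
  calc _ = (Q : ℚ) ^ (s + 2) := by ring
    _ ≤ (commProb G * Nat.card V) * (H.normalCore.index : ℚ) ^ 2 := by linarith
    _ ≤ (commProb G * Nat.card V) * (Q : ℚ) ^ (s + 1) :=
      mul_le_mul_of_nonneg_left h7 (by positivity)
    _ = _ := by ring

end Cfsg.Lib.KCl
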