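import Mathlib
import Cfsg.Agent.Solv.MinNormal

/-! Commuting probabilities and class numbers: elementary inequalities. -/

set_option autoImplicit false

namespace Cfsg.Lib.KCl

open Subgroup

variable {G : Type*} [Group G] [Finite G]

/-- The number of commuting pairs in `X × Y`. -/
noncomputable def cnt (X Y : Subgroup G) : ℕ :=
  Nat.card {p : X × Y // Commute (p.1 : G) (p.2 : G)}

omit [Finite G] in
theorem cnt_comm (X Y : Subgroup G) : cnt X Y = cnt Y X :=
  Nat.card_congr ((Equiv.prodComm X Y).subtypeEquiv fun _ => ⟨Commute.symm, Commute.symm⟩)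

theorem cnt_eq_sum (X Y : Subgroup G) [Fintype X] :
    cnt X Y = ∑ x : X, Nat.card (Y ⊓ centralizer {(x : G)} : Subgroup G) := by
  rw [cnt, Nat.card_congr (Equiv.subtypeProdEquivSigmaSubtype
    fun (x : X) (y : Y) => Commute (x : G) (y : G)), Nat.card_sigma]
  refine Finset.sum_congr rfl fun x _ => Nat.card_congr
    ⟨fun y => ⟨y.1, y.1.2, mem_centralizer_singleton_iff.2 y.2.symm⟩,
      fun y => ⟨⟨y.1, y.2.1⟩, (mem_centralizer_singleton_iff.1 y.2.2).symm⟩,
      fun _ => rfl, fun _ => rfl⟩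

theorem card_le_index_mul (Y C : Subgroup G) :
    Nat.card C ≤ Y.index * Nat.card (Y ⊓ C : Subgroup G) := by
  rw [← Solv.relIndex_mul_card_inf Y C]
  refine Nat.mul_le_mul_right _ ?_
  rw [← relIndex_top_right]
  exact relIndex_le_of_le_right le_top (by rw [relIndex_top_right]; exact index_ne_zero_of_finite)

theorem cnt_top_le (X Y : Subgroup G) : cnt X ⊤ ≤ Y.index * cnt X Y := by
  have := Fintype.ofFinite X
  rw [cnt_eq_sum, cnt_eq_sum, Finset.mul_sum]
  exact Finset.sum_le_sum fun x _ => by rw [top_inf_eq]; exact card_le_index_mul _ _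

omit [Finite G] in
theorem cnt_self (H : Subgroup G) : cnt H H = Nat.card {p : H × H // Commute p.1 p.2} :=
  Nat.card_congr (Equiv.subtypeEquivRight fun _ =>
    ⟨fun h => Subtype.ext h, fun h => congrArg Subtype.val h⟩)

omit [Finite G] in
theorem cp_congr {H : Type*} [Group H] (e : G ≃* H) : commProb G = commProb H := by
  rw [commProb, commProb, Nat.card_congr e.toEquiv]
  congr 2
  exact Nat.card_congr ((e.toEquiv.prodCongr e.toEquiv).subtypeEquiv fun p =>
    ⟨fun h => h.map e, fun h => Commute.of_map e.injective h⟩)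

theorem cp_le_subgroup (H : Subgroup G) : commProb G ≤ commProb H := by
  have h1 : cnt (⊤ : Subgroup G) ⊤ ≤ H.index * (H.index * cnt H H) :=
    (cnt_top_le ⊤ H).trans (Nat.mul_le_mul_left _ (by rw [cnt_comm]; exact cnt_top_le H H))
  rw [cnt_self, cnt_self] at h1
  rw [← cp_congr (topEquiv (G := G)), commProb, commProb, card_top, ← H.index_mul_card]
  have a : (0 : ℚ) < Nat.card H := Nat.cast_pos.2 Finite.card_pos
  have b : (0 : ℚ) < H.index := Nat.cast_pos.2 (Nat.pos_of_ne_zero index_ne_zero_of_finite)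
  rw [div_le_div_iff₀ (by push_cast; positivity) (by positivity)]
  have h2 := (Nat.cast_le (α := ℚ)).2 h1
  push_cast at h2 ⊢
  nlinarith [mul_le_mul_of_nonneg_right h2 (sq_nonneg (Nat.card H : ℚ))]

theorem cp_le_of_injective {H : Type*} [Group H] (f : H →* G) (hf : Function.Injective f) :
    commProb G ≤ commProb H :=
  (cp_le_subgroup f.range).trans_eq (cp_congr (MonoidHom.ofInjective hf)).symm

theorem cp_eq_one (h : ∀ a b : G, a * b = b * a) : commProb G = 1 :=
  commProb_eq_one_iff.2 ⟨⟨h⟩⟩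

theorem card_classes_eq (G : Type*) [Group G] [Finite G] :
    (Nat.card (ConjClasses G) : ℚ) = commProb G * Nat.card G := by
  rw [commProb_def', div_mul_cancel₀ _ (Nat.cast_ne_zero.2 Finite.card_pos.ne')]

/-- Pairs generating a cyclic group modulo a central subgroup commute. -/
theorem le_cp {Q : Type*} [Group Q] (π : G →* Q) (hπ : Function.Surjective π)
    (hz : π.ker ≤ center G) (T : Finset (Q × Q))
    (hT : ∀ p ∈ T, ∃ (z : Q) (i j : ℕ), p.1 = z ^ i ∧ p.2 = z ^ j) :
    (T.card : ℚ) / (Nat.card Q : ℚ) ^ 2 ≤ commProb G := by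
  obtain ⟨s, hs⟩ := hπ.hasRightInverse
  have key : ∀ a b : G, (π a, π b) ∈ T → Commute a b := by
    intro a b h
    obtain ⟨z, i, j, h1, h2⟩ := hT _ h
    have e1 : (s z ^ i)⁻¹ * a ∈ center G := hz (by simp [MonoidHom.mem_ker, hs z, ← h1])
    have e2 : (s z ^ j)⁻¹ * b ∈ center G := hz (by simp [MonoidHom.mem_ker, hs z, ← h2])
    rw [← mul_inv_cancel_left (s z ^ i) a, ← mul_inv_cancel_left (s z ^ j) b]
    exact (((Commute.refl _).pow_pow i j).mul_right (mem_center_iff.1 e2 _)).mul_left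
      (mem_center_iff.1 e1 _).symm
  let f : T × π.ker × π.ker → {p : G × G // Commute p.1 p.2} := fun x =>
    ⟨(s x.1.1.1 * x.2.1, s x.1.1.2 * x.2.2), key _ _ (by
      simp [hs x.1.1.1, hs x.1.1.2, MonoidHom.mem_ker.1 x.2.1.2, MonoidHom.mem_ker.1 x.2.2.2])⟩
  have hf : Function.Injective f := by
    rintro ⟨⟨⟨a, b⟩, h⟩, u, v⟩ ⟨⟨⟨a', b'⟩, h'⟩, u', v'⟩ e
    obtain ⟨e1, e2⟩ := Prod.ext_iff.1 (congrArg Subtype.val e)
    change s a * u = s a' * u' at e1
    change s b * v = s b' * v' at e2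
    obtain rfl : a = a' := by
      simpa [hs a, hs a', MonoidHom.mem_ker.1 u.2, MonoidHom.mem_ker.1 u'.2] using congrArg π e1
    obtain rfl : b = b' := by
      simpa [hs b, hs b', MonoidHom.mem_ker.1 v.2, MonoidHom.mem_ker.1 v'.2] using congrArg π e2
    rw [Subtype.ext (mul_left_cancel e1), Subtype.ext (mul_left_cancel e2)]
  have h1 := Nat.card_le_card_of_injective f hf
  rw [Nat.card_prod, Nat.card_prod, Nat.card_eq_fintype_card, Fintype.card_coe] at h1
  have h2 : Nat.card G = Nat.card π.ker * Nat.card Q := by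
    rw [← π.ker.card_mul_index, index_ker, MonoidHom.range_eq_top.2 hπ, card_top]
  have : Finite Q := Finite.of_surjective π hπ
  have a : (0 : ℚ) < Nat.card π.ker := Nat.cast_pos.2 Finite.card_pos
  have b : (0 : ℚ) < Nat.card Q := Nat.cast_pos.2 Finite.card_pos
  rw [commProb, h2, div_le_div_iff₀ (by positivity) (by push_cast; positivity)]
  have h3 := (Nat.cast_le (α := ℚ)).2 h1
  push_cast at h3 ⊢
  nlinarith [mul_le_mul_of_nonneg_right h3 (sq_nonneg (Nat.card Q : ℚ))]

theorem le_cp_three {Q : Type*} [Group Q] (π : G →* Q) (hπ : Function.Surjective π)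
    (hz : π.ker ≤ center G) :
    (3 * (Nat.card Q : ℚ) - 2) / (Nat.card Q : ℚ) ^ 2 ≤ commProb G := by
  classical
  have : Finite Q := Finite.of_surjective π hπ
  have := Fintype.ofFinite Q
  let E := Finset.univ.erase (1 : Q)
  let T : Finset (Q × Q) := (Finset.univ.image fun x => (1, x)) ∪
    ((E.image fun x => (x, 1)) ∪ (E.image fun x => (x, x)))
  refine le_trans (le_of_eq ?_) (le_cp π hπ hz T ?_)
  · have hE : E.card + 1 = Nat.card Q := by
      rw [Finset.card_erase_add_one (Finset.mem_univ _), Nat.card_eq_fintype_card, Finset.card_univ]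
    have : T.card = Nat.card Q + (E.card + E.card) := by
      rw [Finset.card_union_of_disjoint, Finset.card_union_of_disjoint,
        Finset.card_image_of_injective _ (fun _ _ h => congrArg Prod.snd h),
        Finset.card_image_of_injective _ (fun _ _ h => congrArg Prod.fst h),
        Finset.card_image_of_injective _ (fun _ _ h => congrArg Prod.fst h),
        Nat.card_eq_fintype_card, Finset.card_univ]
      · simp only [Finset.disjoint_left, Finset.mem_image, E, Finset.mem_erase]
        rintro _ ⟨x, -, rfl⟩ ⟨y, hy, e⟩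
        exact hy.1 (congrArg Prod.snd e)
      · simp only [Finset.disjoint_left, Finset.mem_image, E, Finset.mem_erase, Finset.mem_union]
        rintro _ ⟨x, -, rfl⟩ (⟨y, hy, e⟩ | ⟨y, hy, e⟩) <;> exact hy.1 (congrArg Prod.fst e)
    rw [this, ← hE]
    push_cast
    ring
  · simp only [T, Finset.mem_union, Finset.mem_image]
    rintro _ (⟨x, -, rfl⟩ | ⟨x, -, rfl⟩ | ⟨x, -, rfl⟩)
    · exact ⟨x, 0, 1, by simp⟩
    · exact ⟨x, 1, 0, by simp⟩
    · exact ⟨x, 1, 1, by simp⟩

theorem le_cp_S4 (π : G →* Equiv.Perm (Fin 4)) (hπ : Function.Surjective π)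
    (hz : π.ker ≤ center G) : 1 / 6 ≤ commProb G := by
  let T : Finset (Equiv.Perm (Fin 4) × Equiv.Perm (Fin 4)) := Finset.univ.filter fun p =>
    p.1 = 1 ∨ p.2 = 1 ∨ p.1 = p.2 ∨ p.1 = p.2 ^ 2 ∨ p.2 = p.1 ^ 2 ∨ p.1 = p.2 ^ 3
  have h : T.card = 96 := by decide +kernel
  refine le_trans (le_of_eq ?_) (le_cp π hπ hz T ?_)
  · rw [h, Nat.card_perm]; simp [Nat.factorial]; norm_num
  · rintro ⟨x, y⟩ hp
    rcases (Finset.mem_filter.1 hp).2 with h | h | h | h | h | h
    · exact ⟨y, 0, 1, by simpa using h⟩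
    · exact ⟨x, 1, 0, by simpa using h⟩
    · exact ⟨y, 1, 1, by simpa using h⟩
    · exact ⟨y, 2, 1, by simpa using h⟩
    · exact ⟨x, 1, 2, by simpa using h⟩
    · exact ⟨y, 3, 1, by simpa using h⟩

/-- Classes of a quotient together with the classes inside a subset of the kernel. -/
theorem card_classes_add_le {H : Type*} [Group H] (φ : G →* H) (hφ : Function.Surjective φ)
    (T : Set (ConjClasses G)) (hT : ∀ c ∈ T, ∃ v, v ≠ 1 ∧ φ v = 1 ∧ ConjClasses.mk v = c) :
    Nat.card (ConjClasses H) + Nat.card T ≤ Nat.card (ConjClasses G) := by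
  classical
  have : Finite H := Finite.of_surjective φ hφ
  obtain ⟨s, hs⟩ := (ConjClasses.map_surjective hφ).hasRightInverse
  let s' : ConjClasses H → ConjClasses G := fun c => if c = 1 then 1 else s c
  have hs' : ∀ c, ConjClasses.map φ (s' c) = c := fun c => by
    simp only [s']
    split_ifs with h
    · rw [h]; exact congrArg ConjClasses.mk (map_one φ)
    · exact hs c
  rw [← Nat.card_sum]
  refine Nat.card_le_card_of_injective (Sum.elim s' Subtype.val) ?_
  have key : ∀ c (t : T), s' c ≠ t := by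
    intro c t e
    obtain ⟨v, h1, h2, h3⟩ := hT t t.2
    have h4 : c = 1 := by
      rw [← hs' c, e, ← h3]; exact congrArg ConjClasses.mk h2
    simp only [s', h4, if_true] at e
    exact h1 (isConj_one_right.1 (ConjClasses.mk_eq_mk_iff_isConj.1 (e.trans h3.symm)))
  rintro (a | a) (b | b) e
  · exact congrArg _ ((hs' a).symm.trans ((congrArg _ e).trans (hs' b)))
  · exact absurd e (key a b)
  · exact absurd e.symm (key b a)
  · exact congrArg _ (Subtype.ext e)

theorem exists_classes {H : Type*} [Group H] (φ : G →* H) (hφ : Function.Surjective φ)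
    (V : Subgroup G) (h1 : V ≤ φ.ker) (h2 : φ.ker ≤ centralizer (V : Set G)) :
    ∃ t, Nat.card (ConjClasses H) + t ≤ Nat.card (ConjClasses G) ∧
      Nat.card V ≤ t * Nat.card H + 1 := by
  classical
  have : Finite H := Finite.of_surjective φ hφ
  let T : Set (ConjClasses G) := {c | ∃ v ∈ V, v ≠ 1 ∧ ConjClasses.mk v = c}
  refine ⟨Nat.card T, card_classes_add_le φ hφ T fun c ⟨v, hv, a, b⟩ => ⟨v, a, h1 hv, b⟩, ?_⟩
  obtain ⟨s, hs⟩ := hφ.hasRightInverse
  choose r hr hr1 hr2 using fun t : T => t.2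
  let f : Option (T × H) → G := fun x => x.elim 1 fun y => s y.2 * r y.1 * (s y.2)⁻¹
  have hf : (V : Set G) ⊆ Set.range f := by
    intro v hv
    by_cases h : v = 1
    · exact ⟨none, h.symm⟩
    let t : T := ⟨_, v, hv, h, rfl⟩
    obtain ⟨g, hg⟩ := isConj_iff.1 (ConjClasses.mk_eq_mk_iff_isConj.1 (hr2 t))
    refine ⟨some (t, φ g), ?_⟩
    have h3 := h2 (x := g⁻¹ * s (φ g)) (by simp [MonoidHom.mem_ker, hs (φ g)]) _ (hr t)
    change s (φ g) * r t * (s (φ g))⁻¹ = v
    rw [← hg]
    calc _ = g * (g⁻¹ * s (φ g) * r t) * (s (φ g))⁻¹ := by group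
      _ = _ := by rw [← h3]; group
  calc Nat.card V ≤ Nat.card (Set.range f) := Nat.card_mono (Set.toFinite _) hf
    _ ≤ Nat.card (Option (T × H)) := Finite.card_range_le f
    _ = _ := by rw [Finite.card_option, Nat.card_prod]

end Cfsg.Lib.KCl
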