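import Cfsg.Agent.KCl.Form

/-! Primitive solvable linear groups: the self-centralizing section and its form. -/

set_option autoImplicit false

namespace Cfsg.Lib.KCl

open Subgroup Cfsg.Lib.Base Cfsg.Lib.Base.Setup
open scoped commutatorElement

universe u

variable {K V : Type*} {Γ : Type u} [Field K] [AddCommGroup V] [Module K V] [Group Γ]
  [DistribMulAction Γ V] [Nontrivial V] {S : Setup K V Γ} {N : Subgroup Γ}

theorem index_A_le [Finite K] [FaithfulSMul Γ V] (S : Setup K V Γ) {p f : ℕ} (hp : p.Prime)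
    (hK : Nat.card K = p ^ f) : S.A.index ≤ f := by
  have := Fact.mk hp
  have := Fintype.ofFinite K
  have : CharP K p := charP_of_card_eq_prime_pow (by rw [← hK, Nat.card_eq_fintype_card])
  let _ := ZMod.algebra K p
  have h1 : Module.finrank (ZMod p) K = f := Nat.pow_right_injective hp.two_le (by
    have := Module.natCard_eq_pow_finrank (K := ZMod p) (V := K)
    rw [Nat.card_zmod, hK] at this
    exact this.symm)
  obtain ⟨v, hv⟩ := exists_ne (0 : V)
  choose σ h0 hσ using S.exists_smul_smul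
  have hg : ∀ g : Γ, g • v ≠ 0 := fun g e => hv ((smul_eq_zero_iff_eq g).1 e)
  let τ : Γ → K →+* K := fun g =>
    { toFun := σ g
      map_one' := eq_of_smul_eq (hg g) (by rw [← hσ, one_smul, one_smul])
      map_mul' := fun a b => eq_of_smul_eq (hg g) (by rw [← hσ, mul_smul, hσ, hσ, mul_smul])
      map_zero' := (h0 g 0).2 rfl
      map_add' := fun a b => eq_of_smul_eq (hg g) (by
        rw [← hσ, add_smul, smul_add, hσ, hσ, add_smul]) }
  let ρ : Γ → K →ₐ[ZMod p] K := fun g => ⟨τ g, fun x =>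
    RingHom.congr_fun (RingHom.ext_zmod ((τ g).comp (algebraMap _ K)) _) x⟩
  refine (Nat.card_le_card_of_injective (fun q : Γ ⧸ S.A => ρ q.out) fun a b e => ?_).trans
    ((card_algHom_le_finrank (ZMod p) K K).trans h1.le)
  rw [← a.out_eq, ← b.out_eq]
  refine QuotientGroup.eq.2 ?_
  rintro _ ⟨u, rfl⟩
  refine FaithfulSMul.eq_of_smul_eq_smul (α := V) fun w => ?_
  have e1 : σ a.out u = σ b.out u := DFunLike.congr_fun e (u : K)
  rw [mul_smul, mul_smul, mul_smul, mul_smul, S.ι_smul, S.ι_smul, hσ, eq_inv_smul_iff, hσ,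
    smul_inv_smul, e1]

/-- A normal subgroup, abelian modulo the scalars, whose linear centralizer is scalar. -/
structure Big (S : Setup K V Γ) (N : Subgroup Γ) : Prop where
  normal : N.Normal
  U_le : S.U ≤ N
  le_A : N ≤ S.A
  comm : ∀ a ∈ N, ∀ b ∈ N, ⁅a, b⁆ ∈ S.U
  cent : ∀ g ∈ S.A, g ∈ centralizer (N : Set Γ) → g ∈ S.U

theorem exists_big [Finite Γ] [Group.IsSolvable Γ] (S : Setup K V Γ) : ∃ N, Big S N := by
  obtain ⟨P, M, h⟩ := exists_fam S
  have := S.normal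
  let F : Option P → Subgroup Γ := fun i => i.elim S.U fun r => M r
  have hn : ∀ i, (F i).Normal := by
    rintro (_ | r)
    · exact S.normal
    · exact (h.heis r r.2).normal
  have hA : ∀ i, F i ≤ S.A := by
    rintro (_ | r)
    · exact U_le_A
    · exact (h.heis r r.2).le_A
  let D : Subgroup Γ → Subgroup Γ := fun Y =>
    (centralizer (Y.map (QuotientGroup.mk' S.U) : Set (Γ ⧸ S.U))).comap (QuotientGroup.mk' S.U)
  have hD : ∀ Y a, a ∈ D Y ↔ ∀ b ∈ Y, ⁅b, a⁆ ∈ S.U := fun Y a => by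
    simp only [D, mem_comap, mem_centralizer_iff, SetLike.mem_coe, mem_map,
      forall_exists_index, and_imp, forall_apply_eq_imp_iff₂]
    refine forall₂_congr fun b _ => ?_
    rw [← commutatorElement_eq_one_iff_mul_comm, ← map_commutatorElement]
    exact QuotientGroup.eq_one_iff _
  have hs : ∀ X Y, X ≤ D Y → Y ≤ D X := fun X Y h1 b hb => (hD _ _).2 fun a ha => by
    rw [← commutatorElement_inv]; exact inv_mem ((hD _ _).1 (h1 ha) b hb)
  have hF : ∀ i j, F i ≤ D (F j) := by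
    have h0 : ∀ j, S.U ≤ D (F j) := fun j a ha => (hD _ _).2 fun b _ =>
      mul_mem (S.normal.conj_mem a ha b) (inv_mem ha)
    rintro (_ | r) (_ | s)
    · exact h0 none
    · exact h0 _
    · exact hs _ _ (h0 (some r))
    · refine fun a ha => (hD _ _).2 fun b hb => ?_
      by_cases e : r = s
      · subst e; exact (h.heis r r.2).comm b hb a ha
      · rw [commutatorElement_eq_one_iff_mul_comm.2
          (h.comm r r.2 s s.2 (fun e' => e (Subtype.ext e')) ha b hb)]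
        exact one_mem _
  refine ⟨⨆ i, F i, inferInstance, le_iSup F none, iSup_le hA, fun a ha b hb => ?_,
    fun g hg hc => h.cent g hg fun r hr => centralizer_le (le_iSup F (some ⟨r, hr⟩)) hc⟩
  exact (hD _ _).1 ((iSup_le fun i => hs _ _ (iSup_le fun j => hF j i) : _ ≤ D (⨆ i, F i)) hb) a ha

theorem cm_mul_of_mem {g a b : Γ} (ha : a ∈ S.A) (h1 : ⁅g, a⁆ ∈ S.U) (h2 : ⁅g, b⁆ ∈ S.U) :
    S.cm g (a * b) = S.cm g a * S.cm g b := by
  have e : ⁅g, a * b⁆ = ⁅g, a⁆ * ⁅g, b⁆ := by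
    calc ⁅g, a * b⁆ = ⁅g, a⁆ * (a * ⁅g, b⁆ * a⁻¹) := by group
      _ = _ := by rw [← ha _ h2, mul_inv_cancel_right]
  refine ι_injective (S := S) ?_
  rw [map_mul, cm, cm, cm, ι_sc h1, ι_sc h2, e, ι_sc (mul_mem h1 h2)]

theorem cm_U {g u : Γ} (hg : g ∈ S.A) (hu : u ∈ S.U) : S.cm g u = 1 := by
  have e := (hg u hu).symm
  exact (cm_eq_one_iff (by rw [commutatorElement_eq_one_iff_mul_comm.2 e]; exact one_mem _)).2 e

theorem cm_swap' {a b : Γ} (h : ⁅a, b⁆ ∈ S.U) : S.cm b a = (S.cm a b)⁻¹ := by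
  refine ι_injective (S := S) ?_
  rw [map_inv, cm, cm, ι_sc h, ← commutatorElement_inv a b, ι_sc (inv_mem h)]

theorem Sec.exists_lift {Γ : Type*} [Group Γ] {M C H : Subgroup Γ} {Ω : Type*} [AddCommGroup Ω]
    [DistribMulAction H Ω] {pr : Γ → Ω} (hs : Sec M C H pr) (hC : C ≤ M) {Z : Type*} [CommGroup Z]
    (φ : Γ → Z) (h1 : ∀ a ∈ M, ∀ b ∈ M, φ (a * b) = φ a * φ b) (h2 : ∀ u ∈ C, φ u = 1) :
    ∃ f : Ω →+ Additive Z, ∀ a ∈ M, f (pr a) = Additive.ofMul (φ a) := by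
  choose n hn hn' using hs.surj
  have h3 : ∀ a ∈ M, φ (n (pr a)) = φ a := fun a ha => by
    have := (hs.eq_iff ha (hn _)).1 (hn' _).symm
    rw [← mul_inv_cancel_left a (n (pr a)), h1 _ ha _ (hC this), h2 _ this, mul_one]
  exact ⟨AddMonoidHom.mk' (fun ω => Additive.ofMul (φ (n ω))) fun ω ω' => by
    rw [← ofMul_mul, ← h1 _ (hn _) _ (hn _), ← h3 _ (mul_mem (hn _) (hn _)),
      hs.mul _ (hn _) _ (hn _), hn', hn'], fun a ha => congrArg Additive.ofMul (h3 a ha)⟩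

namespace Big

variable (h : Big S N) {Ω : Type*} [AddCommGroup Ω] [DistribMulAction (⊤ : Subgroup Γ) Ω]
  {pr : Γ → Ω} (s : Sec N S.U ⊤ pr)
include h s


theorem exists_form : ∃ B : Ω →+ Ω →+ Additive Kˣ,
    ∀ a ∈ N, ∀ b ∈ N, B (pr a) (pr b) = Additive.ofMul (S.cm a b) := by
  choose F hF using fun a : N => Sec.exists_lift s h.U_le (S.cm a)
    (fun b hb c hc => cm_mul_of_mem (h.le_A hb) (h.comm _ a.2 _ hb) (h.comm _ a.2 _ hc))
    fun u hu => cm_U (h.le_A a.2) hu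
  have hm : ∀ a ∈ N, ∀ b ∈ N, ∀ c ∈ N, S.cm (a * b) c = S.cm a c * S.cm b c :=
    fun a ha b hb c hc => by
      rw [cm_swap' (h.comm _ hc _ (mul_mem ha hb)), cm_swap' (h.comm _ hc _ ha),
        cm_swap' (h.comm _ hc _ hb),
        cm_mul_of_mem (h.le_A ha) (h.comm _ hc _ ha) (h.comm _ hc _ hb), mul_inv]
  classical
  obtain ⟨B, hB⟩ := Sec.exists_lift s h.U_le (Z := Multiplicative (Ω →+ Additive Kˣ))
    (fun a => if ha : a ∈ N then Multiplicative.ofAdd (F ⟨a, ha⟩) else 1)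
    (fun a ha b hb => by
      rw [dif_pos ha, dif_pos hb, dif_pos (mul_mem ha hb), ← ofAdd_add]
      refine congrArg _ (AddMonoidHom.ext fun ω => ?_)
      obtain ⟨c, hc, rfl⟩ := s.surj ω
      rw [AddMonoidHom.add_apply, hF _ _ hc, hF _ _ hc, hF _ _ hc, ← ofMul_mul, ← hm a ha b hb c hc])
    (fun u hu => by
      rw [dif_pos (h.U_le hu), ofAdd_eq_one]
      refine AddMonoidHom.ext fun ω => ?_
      obtain ⟨c, hc, rfl⟩ := s.surj ω
      rw [hF _ _ hc, cm_swap' (h.comm _ hc _ (h.U_le hu)), cm_U (h.le_A hc) hu]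
      rfl)
  refine ⟨B, fun a ha b hb => ?_⟩
  rw [← hF ⟨a, ha⟩ b hb]
  have := hB a ha
  rw [dif_pos ha] at this
  exact DFunLike.congr_fun (F := Ω →+ Additive Kˣ) this (pr b)

variable {B : Ω →+ Ω →+ Additive Kˣ}
  (hB : ∀ a ∈ N, ∀ b ∈ N, B (pr a) (pr b) = Additive.ofMul (S.cm a b))
include hB

omit [DistribMulAction (⊤ : Subgroup Γ) Ω] s in
theorem form_eq_zero {a b : Γ} (ha : a ∈ N) (hb : b ∈ N) :
    B (pr a) (pr b) = 0 ↔ a * b = b * a := by
  rw [hB a ha b hb, ofMul_eq_zero, cm_eq_one_iff (h.comm a ha b hb)]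

theorem symp : Symp (⊤ : Subgroup Γ) B := by
  refine ⟨fun x => ?_, fun g x y hxy => ?_, fun T hT hi => ?_⟩
  · obtain ⟨a, ha, rfl⟩ := s.surj x
    exact (h.form_eq_zero hB ha ha).2 rfl
  · obtain ⟨a, ha, rfl⟩ := s.surj x
    obtain ⟨b, hb, rfl⟩ := s.surj y
    rw [← s.conj g a ha, ← s.conj g b hb,
      h.form_eq_zero hB (h.normal.conj_mem _ ha _) (h.normal.conj_mem _ hb _), conj_mul, conj_mul,
      (h.form_eq_zero hB ha hb).1 hxy]
  · let L : Subgroup Γ :=
      { carrier := {a | a ∈ N ∧ pr a ∈ T}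
        one_mem' := ⟨one_mem _, by rw [s.one]; exact zero_mem _⟩
        mul_mem' := fun ha hb => ⟨mul_mem ha.1 hb.1, by
          rw [s.mul _ ha.1 _ hb.1]; exact add_mem ha.2 hb.2⟩
        inv_mem' := fun ha => ⟨inv_mem ha.1, by rw [s.inv ha.1]; exact neg_mem ha.2⟩ }
    have := S.max L ⟨fun a ha g => ⟨h.normal.conj_mem _ ha.1 _, by
        rw [s.conj ⟨g, trivial⟩ a ha.1]; exact hT _ _ ha.2⟩⟩
      (fun a ha b hb => (h.form_eq_zero hB ha.1 hb.1).1 (hi _ ha.2 _ hb.2))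
      fun u hu => ⟨h.U_le hu, by rw [(s.eq_zero _ (h.U_le hu)).2 hu]; exact zero_mem _⟩
    refine eq_bot_iff.2 fun x hx => ?_
    obtain ⟨a, ha, rfl⟩ := s.surj x
    exact (s.eq_zero a ha).2 (this ⟨ha, hx⟩)

theorem form_inv (g : (⊤ : Subgroup Γ)) (hg : (g : Γ) ∈ S.A) (x y : Ω) :
    B (g • x) (g • y) = B x y := by
  obtain ⟨a, ha, rfl⟩ := s.surj x
  obtain ⟨b, hb, rfl⟩ := s.surj y
  rw [← s.conj g a ha, ← s.conj g b hb, hB _ (h.normal.conj_mem _ ha _) _ (h.normal.conj_mem _ hb _),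
    hB a ha b hb, cm_conj hg (h.comm a ha b hb)]

theorem smul_eq_iff [Finite K] [Finite Ω] (g : (⊤ : Subgroup Γ)) (hg : (g : Γ) ∈ S.A) :
    (∀ ω : Ω, g • ω = ω) ↔ (g : Γ) ∈ N := by
  have key : ∀ a ∈ N, g • pr a = pr a ↔ ⁅(g : Γ), a⁆ ∈ S.U := fun a ha => by
    have h1 := h.normal.conj_mem _ ha (g : Γ)
    rw [← s.conj g a ha, ← sub_eq_zero, sub_eq_add_neg, ← s.inv ha, ← s.mul _ h1 _ (inv_mem ha),
      s.eq_zero _ (mul_mem h1 (inv_mem ha)), commutatorElement_def]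
  refine ⟨fun h1 => ?_, fun h1 ω => ?_⟩
  · have h2 : ∀ a ∈ N, ⁅(g : Γ), a⁆ ∈ S.U := fun a ha => (key a ha).1 (h1 _)
    obtain ⟨f, hf⟩ := Sec.exists_lift s h.U_le (S.cm g)
      (fun b hb c hc => cm_mul_of_mem (h.le_A hb) (h2 _ hb) (h2 _ hc)) fun u hu => cm_U hg hu
    obtain ⟨x, rfl⟩ := surj_of_nondeg (h.symp s hB).nondeg f
    obtain ⟨c, hc, rfl⟩ := s.surj x
    have h3 : c⁻¹ * g ∈ S.U := h.cent _ (mul_mem (inv_mem (h.le_A hc)) hg) fun a ha => by
      have h4 : S.cm c a = S.cm g a := (hB c hc a ha).symm.trans (hf a ha)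
      have h5 := congrArg S.ι h4
      rw [cm, cm, ι_sc (h.comm c hc a ha), ι_sc (h2 a ha), commutatorElement_def,
        commutatorElement_def, mul_left_inj] at h5
      calc a * (c⁻¹ * g) = c⁻¹ * (c * a * c⁻¹) * g := by group
        _ = _ := by rw [h5]; group
    simpa using mul_mem hc (h.U_le h3)
  · obtain ⟨a, ha, rfl⟩ := s.surj ω
    exact (key a ha).2 (h.comm _ h1 _ ha)

theorem card_le_sq [Finite V] [Finite Ω] :
    Nat.card Ω ≤ Module.finrank K V * Module.finrank K V := by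
  classical
  have := Fintype.ofFinite Ω
  choose n hn hn' using s.surj
  let f : N → Module.End K V := fun a => lin (S := S) ⟨a, h.le_A a.2⟩
  have key : LinearIndependent K fun ω => f ⟨n ω, hn ω⟩ := by
    refine Fintype.linearIndependent_iff.2 fun c hc ω => ?_
    have h1 := eq_zero_of_weights (K := K)
      (fun t : N => LinearMap.mulLeft K (f t) ∘ₗ LinearMap.mulRight K (f t⁻¹))
      (fun ω t => (S.cm t (n ω) : K)) (fun ω ω' h1 => by
        rw [← sub_eq_zero]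
        refine (h.symp s hB).nondeg _ fun y => ?_
        obtain ⟨b, hb, rfl⟩ := s.surj y
        rw [alt_swap (h.symp s hB).alt, map_sub, ← hn' ω, ← hn' ω', hB _ hb _ (hn _),
          hB _ hb _ (hn _), Units.ext (congrFun h1 ⟨b, hb⟩), sub_self, neg_zero])
      (Finset.univ.erase ω) (Finset.notMem_erase _ _) (fun ω => c ω • f ⟨n ω, hn ω⟩)
      (fun ω t => LinearMap.ext fun w => by
        change (t : Γ) • c ω • n ω • (t : Γ)⁻¹ • w = (S.cm t (n ω) : K) • c ω • n ω • w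
        rw [Setup.smul_smul (h.le_A t.2), smul_comm (S.cm t (n ω) : K), ← S.ι_smul, cm,
          ι_sc (h.comm _ t.2 _ (hn ω)), ← mul_smul (t : Γ), ← mul_smul (_ * _ : Γ),
          ← mul_smul ⁅(t : Γ), n ω⁆, commutatorElement_def, inv_mul_cancel_right])
      ((Finset.add_sum_erase _ (fun ω => c ω • f ⟨n ω, hn ω⟩) (Finset.mem_univ ω)).trans hc)
    obtain ⟨w, hw⟩ := exists_ne (0 : V)
    have h2 : c ω • n ω • w = 0 := LinearMap.congr_fun h1 w
    exact (smul_eq_zero.1 h2).resolve_right (by rwa [smul_eq_zero_iff_eq])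
  simpa [Module.finrank_linearMap] using key.fintype_card_le_finrank

end Big

end Cfsg.Lib.KCl
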