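import Mathlib
import Cfsg.Agent.Char.PermLemma

/-! Class numbers of groups of order divisible by `p ^ 2` for small primes. -/

set_option autoImplicit false

namespace Cfsg.Lib.KCl

open Subgroup

variable {G : Type*} [Group G] [Finite G]

theorem sq_dvd_card_cent_pGroup {p : ℕ} [hp : Fact p.Prime] (hG : IsPGroup p G)
    (h : p ^ 2 ∣ Nat.card G) (x : G) : p ^ 2 ∣ Nat.card (centralizer ({x} : Set G)) := by
  have : Nontrivial G := Finite.one_lt_card_iff_nontrivial.1
    ((Nat.one_lt_pow two_ne_zero hp.out.one_lt).trans_le (Nat.le_of_dvd Nat.card_pos h))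
  obtain ⟨n, hn⟩ := IsPGroup.iff_card.1 (hG.to_subgroup (centralizer ({x} : Set G)))
  have := hG.center_nontrivial
  obtain ⟨z, hz⟩ := exists_ne (1 : center G)
  have hzc : (z : G) ∈ centralizer ({x} : Set G) := center_le_centralizer _ z.2
  rcases Nat.lt_or_ge n 2 with h2 | h2
  · have h1 : (⟨z, hzc⟩ : centralizer ({x} : Set G)) ≠ 1 := fun e =>
      hz (Subtype.ext (congrArg Subtype.val e :))
    obtain rfl | rfl : n = 0 ∨ n = 1 := by omega
    · have := (Nat.card_eq_one_iff_unique.1 hn).1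
      exact absurd (Subsingleton.elim _ _) h1
    · obtain ⟨k, hk⟩ := mem_zpowers_of_prime_card (by rw [hn, pow_one]) h1
        (g' := ⟨x, mem_centralizer_singleton_iff.2 rfl⟩)
      have h3 : x ∈ center G := by
        have : (z : G) ^ k = x := congrArg Subtype.val hk
        exact this ▸ zpow_mem z.2 k
      rwa [centralizer_eq_top_iff_subset.2 (by simpa using h3), card_top]
  · rw [hn]; exact pow_dvd_pow _ h2

theorem sq_dvd_card_cent {p : ℕ} [hp : Fact p.Prime] (h : p ^ 2 ∣ Nat.card G) {x : G}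
    (hx : x ^ p = 1) : p ^ 2 ∣ Nat.card (centralizer ({x} : Set G)) := by
  have h1 : IsPGroup p (zpowers x) := IsPGroup.of_card_dvd_pow (n := 1) (by
    rw [Nat.card_zpowers, pow_one]; exact orderOf_dvd_of_pow_eq_one hx)
  obtain ⟨P, hP⟩ := h1.exists_le_sylow
  have h2 := sq_dvd_card_cent_pGroup P.isPGroup' (P.pow_dvd_card_of_pow_dvd_card h)
    ⟨x, hP (mem_zpowers x)⟩
  refine h2.trans ?_
  rw [← card_subtype]
  refine card_dvd_of_le ?_
  rintro _ ⟨y, hy, rfl⟩
  exact mem_centralizer_singleton_iff.2 (congrArg Subtype.val (mem_centralizer_singleton_iff.1 hy))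

theorem egypt_two {a b : ℕ} (ha : 2 ≤ a) (hb : 2 ≤ b) (h : (1 : ℚ) / a + 1 / b < 1) :
    (1 : ℚ) / a + 1 / b ≤ 5 / 6 := by
  have key : ∀ {m n : ℕ}, 0 < m → m ≤ n → (1 : ℚ) / n ≤ 1 / m := fun h1 h2 =>
    one_div_le_one_div_of_le (by exact_mod_cast h1) (by exact_mod_cast h2)
  rcases ha.eq_or_lt with rfl | ha'
  · rcases hb.eq_or_lt with rfl | hb'
    · norm_num at h
    · have := key (m := 3) (by norm_num) hb'
      push_cast at *; linarith
  · have := key (m := 3) (by norm_num) ha'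
    have := key (m := 2) (by norm_num) hb
    push_cast at *; linarith

theorem egypt_three_le {a b c : ℕ} (ha : 2 ≤ a) (hab : a ≤ b) (hbc : b ≤ c) (hc : c ≠ 7)
    (h : (1 : ℚ) / a + 1 / b + 1 / c < 1) : (1 : ℚ) / a + 1 / b + 1 / c ≤ 23 / 24 := by
  have key : ∀ {m n : ℕ}, 0 < m → m ≤ n → (1 : ℚ) / n ≤ 1 / m := fun h1 h2 =>
    one_div_le_one_div_of_le (by exact_mod_cast h1) (by exact_mod_cast h2)
  by_cases h8 : 8 ≤ c
  · have h0 : (0 : ℚ) ≤ 1 / c := by positivity
    have := egypt_two ha (ha.trans hab) (by linarith)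
    have := key (m := 8) (by norm_num) h8
    push_cast at *; linarith
  · have : c ≤ 6 := by omega
    have : b ≤ 6 := by omega
    have : a ≤ 6 := by omega
    interval_cases c <;> interval_cases b <;> interval_cases a <;>
      first | (norm_num; done) | norm_num at h

theorem egypt_three {a b c : ℕ} (ha : 2 ≤ a) (hb : 2 ≤ b) (hc : 2 ≤ c) (ha' : a ≠ 7) (hb' : b ≠ 7)
    (hc' : c ≠ 7) (h : (1 : ℚ) / a + 1 / b + 1 / c < 1) :
    (1 : ℚ) / a + 1 / b + 1 / c ≤ 23 / 24 := by
  rcases le_total a b with h1 | h1 <;> rcases le_total b c with h2 | h2 <;>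
    rcases le_total a c with h3 | h3
  · exact egypt_three_le ha h1 h2 hc' h
  · exact egypt_three_le ha h1 h2 hc' h
  · have := egypt_three_le ha h3 h2 hb' (by linarith); linarith
  · have := egypt_three_le hc h3 h1 hb' (by linarith); linarith
  · have := egypt_three_le hb h1 h3 hc' (by linarith); linarith
  · have := egypt_three_le hb h2 h3 ha' (by linarith); linarith
  · have := egypt_three_le hc h2 h1 ha' (by linarith); linarith
  · have := egypt_three_le hc h2 h1 ha' (by linarith); linarith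

theorem egypt {ι : Type*} (s : Finset ι) (f : ι → ℕ) (h2 : ∀ i ∈ s, 2 ≤ f i)
    (h : ∑ i ∈ s, (1 : ℚ) / f i < 1) :
    (s.card ≤ 2 → ∑ i ∈ s, (1 : ℚ) / f i ≤ 5 / 6) ∧
    (s.card ≤ 3 → (∀ i ∈ s, f i ≠ 7) → ∑ i ∈ s, (1 : ℚ) / f i ≤ 23 / 24) := by
  classical
  have k1 : s.card ≤ 2 → ∑ i ∈ s, (1 : ℚ) / f i ≤ 5 / 6 := fun hs => by
    obtain h0 | h0 | h0 : s.card = 0 ∨ s.card = 1 ∨ s.card = 2 := by omega
    · rw [Finset.card_eq_zero.1 h0]; norm_num
    · obtain ⟨a, rfl⟩ := Finset.card_eq_one.1 h0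
      have : (2 : ℚ) ≤ f a := by exact_mod_cast h2 a (by simp)
      rw [Finset.sum_singleton]
      exact (one_div_le_one_div_of_le (by norm_num) this).trans (by norm_num)
    · obtain ⟨a, b, hab, rfl⟩ := Finset.card_eq_two.1 h0
      rw [Finset.sum_pair hab] at h ⊢
      exact egypt_two (h2 a (by simp)) (h2 b (by simp)) h
  refine ⟨k1, fun hs h7 => ?_⟩
  rcases hs.eq_or_lt with h0 | h0
  · obtain ⟨a, b, c, hab, hac, hbc, rfl⟩ := Finset.card_eq_three.1 h0
    rw [Finset.sum_insert (by simp [hab, hac]), Finset.sum_pair hbc, ← add_assoc] at h ⊢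
    exact egypt_three (h2 a (by simp)) (h2 b (by simp)) (h2 c (by simp)) (h7 a (by simp))
      (h7 b (by simp)) (h7 c (by simp)) h
  · exact (k1 (by omega)).trans (by norm_num)

theorem sum_inv_cent [Fintype (ConjClasses G)] :
    ∑ C : ConjClasses G, (1 : ℚ) / Nat.card (centralizer ({C.out} : Set G)) = 1 := by
  have := Fintype.ofFinite G
  have h := Char.sum_eq_sum_conjClasses (G := G) fun _ => (1 : ℚ) / Nat.card G
  have h0 : (Nat.card G : ℚ) ≠ 0 := Nat.cast_ne_zero.2 Nat.card_pos.ne'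
  rw [Finset.sum_const, Finset.card_univ, ← Nat.card_eq_fintype_card, nsmul_eq_mul,
    mul_one_div_cancel h0] at h
  refine (Finset.sum_congr rfl fun C _ => ?_).trans h.symm
  have h1 : (Nat.card (centralizer ({C.out} : Set G)) : ℚ) ≠ 0 :=
    Nat.cast_ne_zero.2 Nat.card_pos.ne'
  have h2 : ((centralizer ({C.out} : Set G)).index : ℚ) ≠ 0 :=
    Nat.cast_ne_zero.2 index_ne_zero_of_finite
  rw [← (centralizer ({C.out} : Set G)).index_mul_card]
  push_cast
  field_simp

theorem small_prime {p : ℕ} [hp : Fact p.Prime] (h : p ^ 2 ∣ Nat.card G) (h7 : p ≤ 7) :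
    49 * p ≤ 60 * Nat.card (ConjClasses G) := by
  classical
  have := Fintype.ofFinite (ConjClasses G)
  obtain ⟨z, hz⟩ := exists_prime_orderOf_dvd_card' p ((dvd_pow_self p two_ne_zero).trans h)
  have z1 : z ≠ 1 := fun e => hp.out.one_lt.ne (by rw [← hz, e, orderOf_one])
  let f : ConjClasses G → ℕ := fun C => Nat.card (centralizer ({C.out} : Set G))
  have hout : ∀ x : G, x ^ p = 1 → (ConjClasses.mk x).out ^ p = 1 := fun x hx => by
    obtain ⟨g, hg⟩ := isConj_iff.1 (ConjClasses.mk_eq_mk_iff_isConj.1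
      (Quotient.out_eq (ConjClasses.mk x)).symm)
    rw [← hg, conj_pow, hx, mul_one, mul_inv_cancel]
  have hle : ∀ x : G, x ^ p = 1 → (1 : ℚ) / f (ConjClasses.mk x) ≤ 1 / (p : ℚ) ^ 2 := fun x hx =>
    one_div_le_one_div_of_le (pow_pos (Nat.cast_pos.2 hp.out.pos) 2)
      (by exact_mod_cast Nat.le_of_dvd Nat.card_pos (sq_dvd_card_cent h (hout x hx)))
  have hne : ConjClasses.mk (1 : G) ≠ ConjClasses.mk z := fun e =>
    z1 (isConj_one_right.1 (ConjClasses.mk_eq_mk_iff_isConj.1 e))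
  let s := (Finset.univ.erase (ConjClasses.mk (1 : G))).erase (ConjClasses.mk z)
  have m1 : ConjClasses.mk z ∈ Finset.univ.erase (ConjClasses.mk (1 : G)) := by simp [hne.symm]
  have hs : s.card + 2 = Nat.card (ConjClasses G) := by
    rw [Nat.card_eq_fintype_card, ← Finset.card_univ,
      ← Finset.card_erase_add_one (Finset.mem_univ (ConjClasses.mk (1 : G))),
      ← Finset.card_erase_add_one m1]
  have e := sum_inv_cent (G := G)
  rw [← Finset.add_sum_erase _ _ (Finset.mem_univ (ConjClasses.mk (1 : G))),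
    ← Finset.add_sum_erase _ _ m1] at e
  have a1 := hle 1 (one_pow p)
  have a2 := hle z (hz ▸ pow_orderOf_eq_one z)
  have a3 : (0 : ℚ) < 1 / f (ConjClasses.mk 1) := one_div_pos.2 (Nat.cast_pos.2 Nat.card_pos)
  have a4 : (0 : ℚ) < 1 / f (ConjClasses.mk z) := one_div_pos.2 (Nat.cast_pos.2 Nat.card_pos)
  have n1 : ∀ C ∈ s, C.out ≠ 1 := fun C hC e => (Finset.mem_erase.1 (Finset.mem_erase.1 hC).2).1
    (by rw [← e]; exact (Quotient.out_eq C).symm)
  have f2 : ∀ C ∈ s, 2 ≤ f C := fun C hC => Finite.one_lt_card_iff_nontrivial.2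
    ⟨⟨C.out, mem_centralizer_singleton_iff.2 rfl⟩, 1, fun e => n1 C hC (congrArg Subtype.val e)⟩
  change 1 / (f _ : ℚ) + (1 / (f _ : ℚ) + ∑ C ∈ s, (1 : ℚ) / f C) = 1 at e
  obtain ⟨k1, k2⟩ := egypt s f f2 (by linarith)
  by_contra hc
  have hp2 := hp.out.two_le
  have hpp := hp.out
  interval_cases p
  · omega
  · rw [Finset.card_eq_zero.1 (show s.card = 0 by omega), Finset.sum_empty] at e
    norm_num at a1 a2 a3 a4 e; linarith
  · norm_num at hpp
  · have := k1 (by omega)
    norm_num at a1 a2 a3 a4 e this; linarith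
  · norm_num at hpp
  · have := k2 (by omega) fun C hC e7 => by
      have h1 : C.out ^ 7 = 1 := by
        have := pow_card_eq_one' (x := (⟨C.out, mem_centralizer_singleton_iff.2 rfl⟩ :
          centralizer ({C.out} : Set G)))
        rw [show Nat.card (centralizer ({C.out} : Set G)) = 7 from e7] at this
        exact congrArg Subtype.val this
      have h2 := sq_dvd_card_cent h h1
      rw [show Nat.card (centralizer ({C.out} : Set G)) = 7 from e7] at h2
      norm_num at h2
    norm_num at a1 a2 a3 a4 e this; linarith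

end Cfsg.Lib.KCl
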