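import Cfsg.Agent.KCl.Prim
import Cfsg.Agent.KCl.Small
import Cfsg.Agent.Solv.Fitting

/-! The class number of a solvable group of order divisible by `p ^ 2`. -/

set_option autoImplicit false

namespace Cfsg.Lib.KCl

open Subgroup Cfsg.Lib.Base Cfsg.Lib.Solv
open scoped commutatorElement

universe u

theorem num_amgm {p k t : ℕ} (h : 2401 * (p : ℚ) ^ 2 ≤ 14400 * ((k : ℚ) * t)) :
    49 * p ≤ 60 * (k + t) := by
  have : ((49 * p : ℕ) : ℚ) ≤ (60 * (k + t) : ℕ) := by
    refine le_of_sq_le_sq ?_ (by positivity)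
    push_cast
    nlinarith [sq_nonneg ((k : ℚ) - t)]
  exact_mod_cast this

theorem num_exc {p m k t : ℕ} (h11 : 11 ≤ p) (hm : m ∣ p - 1) (hk : 4 * m ≤ k)
    (ht : p ^ 2 ≤ t * (24 * m) + 1) : 49 * p ≤ 60 * (k + t) := by
  obtain ⟨j, hj⟩ := hm
  obtain rfl : p = m * j + 1 := by omega
  have m0 : 0 < m := Nat.pos_of_ne_zero (by rintro rfl; omega)
  have h1 : j * (m * j + 2) ≤ 24 * t := Nat.le_of_mul_le_mul_left (by nlinarith) m0
  rcases Nat.lt_or_ge j 10 with h | h
  · rcases (show m ≤ 2 ∨ 3 ≤ m by omega) with h2 | h2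
    · interval_cases j <;> interval_cases m <;> omega
    · interval_cases j <;> omega
  · obtain ⟨i, rfl⟩ := Nat.exists_eq_add_of_le' h
    nlinarith [Nat.zero_le (m * i), Nat.zero_le (m * i * i)]

theorem smul_comm_of_prime {G V : Type*} [Group G] [AddCommGroup V] [DistribMulAction G V]
    [Finite V] {p : ℕ} [Fact p.Prime] (h : Nat.card V = p) (a b : G) (v : V) : ⁅a, b⁆ • v = v := by
  have := commProb_eq_one_iff.1 (cp_im_of_prime (G := G) h)
  have h1 : (MulAction.toPermHom G V).rangeRestrict ⁅a, b⁆ = 1 := by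
    rw [map_commutatorElement, commutatorElement_eq_one_iff_mul_comm]; exact mul_comm' _ _
  exact Equiv.congr_fun (congrArg Subtype.val h1) v

variable {G : Type u} [Group G] [Finite G]

theorem classes_quotient_le (N : Subgroup G) [N.Normal] :
    Nat.card (ConjClasses (G ⧸ N)) ≤ Nat.card (ConjClasses G) :=
  Nat.card_le_card_of_surjective _ (ConjClasses.map_surjective (QuotientGroup.mk'_surjective N))

/-- A minimal normal abelian subgroup as an irreducible module. -/
theorem exists_module {V : Subgroup G} (hV : IsMinNormal V) (hc : IsMulCommutative V) :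
    ∃ (Ω : Type u) (_ : AddCommGroup Ω) (_ : Finite Ω) (_ : DistribMulAction (⊤ : Subgroup G) Ω)
      (pr : G → Ω) (φ : G →* Im (⊤ : Subgroup G) Ω), Sec V ⊥ ⊤ pr ∧ Irr (⊤ : Subgroup G) Ω ∧
      Nat.card Ω = Nat.card V ∧ Function.Surjective φ ∧ φ.ker = centralizer (V : Set G) ∧
      ∀ g ω, (φ g : Equiv.Perm Ω) ω = (⟨g, trivial⟩ : (⊤ : Subgroup G)) • ω := by
  have := hV.normal
  obtain ⟨Ω, _, _, _, pr, s⟩ := exists_sec (M := V) (C := ⊥) (H := ⊤)
    (fun a ha b hb => commutatorElement_eq_one_iff_mul_comm.2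
      (congrArg Subtype.val (mul_comm' (⟨a, ha⟩ : V) ⟨b, hb⟩)))
    (normalizer_eq_top V).ge (normalizer_eq_top ⊥).ge
  have h1 : Nat.card Ω = Nat.card V := by
    simpa using s.card_mul bot_le le_rfl ⊤ fun ω => ⟨fun _ => s.surj ω, fun _ => trivial⟩
  refine ⟨Ω, _, ‹_›, _, pr, (MulAction.toPermHom _ Ω).rangeRestrict.comp
    (topEquiv (G := G)).symm.toMonoidHom, s, ⟨?_, fun T hT => ?_⟩, h1,
    (MonoidHom.rangeRestrict_surjective _).comp (topEquiv (G := G)).symm.surjective, ?_, fun _ _ => rfl⟩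
  · exact Finite.one_lt_card_iff_nontrivial.1 (h1 ▸ (one_lt_card_iff_ne_bot V).2 hV.ne_bot)
  · let L : Subgroup G :=
      { carrier := {a | a ∈ V ∧ pr a ∈ T}
        one_mem' := ⟨one_mem _, by rw [s.one]; exact zero_mem _⟩
        mul_mem' := fun ha hb => ⟨mul_mem ha.1 hb.1, by
          rw [s.mul _ ha.1 _ hb.1]; exact add_mem ha.2 hb.2⟩
        inv_mem' := fun ha => ⟨inv_mem ha.1, by rw [s.inv ha.1]; exact neg_mem ha.2⟩ }
    refine (hV.min L ⟨fun a ha g => ⟨hV.normal.conj_mem _ ha.1 _, by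
        rw [s.conj ⟨g, trivial⟩ a ha.1]; exact hT _ _ ha.2⟩⟩ fun a ha => ha.1).imp
      (fun h => eq_bot_iff.2 fun x hx => ?_) fun h => eq_top_iff.2 fun x _ => ?_
    · obtain ⟨a, ha, rfl⟩ := s.surj x
      exact (s.eq_zero a ha).2 (h.le ⟨ha, hx⟩)
    · obtain ⟨a, ha, rfl⟩ := s.surj x
      exact (h.ge ha).2
  · ext g
    have key : ∀ a ∈ V, (⟨g, trivial⟩ : (⊤ : Subgroup G)) • pr a = pr a ↔ a * g = g * a :=
      fun a ha => by
        rw [← s.conj _ a ha, s.eq_iff (hV.normal.conj_mem _ ha _) ha, mem_bot, inv_mul_eq_one,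
          mul_inv_eq_iff_eq_mul, eq_comm]
    refine ⟨fun h a ha => (key a ha).1 (Equiv.congr_fun (congrArg Subtype.val h) _),
      fun h => Subtype.ext (Equiv.ext fun ω => ?_)⟩
    obtain ⟨a, ha, rfl⟩ := s.surj ω
    exact (key a ha).2 (h a ha)

theorem exists_normal_of_dvd_fitting {r : ℕ} (hr : r.Prime)
    (h : r ∣ Nat.card (fittingSubgroup G)) :
    ∃ R : Subgroup G, R.Normal ∧ R ≠ ⊥ ∧ IsPGroup r R := by
  have := Fact.mk hr
  obtain ⟨Q⟩ : Nonempty (Sylow r (fittingSubgroup G)) := inferInstance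
  have h1 : ∀ (p : ℕ) (_ : Fact p.Prime) (P : Sylow p (fittingSubgroup G)),
      (P : Subgroup (fittingSubgroup G)).Normal :=
    ((Group.isNilpotent_of_finite_tfae (G := fittingSubgroup G)).out 0 3).mp
      (fitting_isNilpotent G)
  have := h1 r this Q
  have := Q.characteristic_of_normal this
  refine ⟨(Q : Subgroup _).map (fittingSubgroup G).subtype, inferInstance, fun e => ?_,
    Q.isPGroup'.map _⟩
  exact Q.ne_bot_of_dvd_card h ((map_eq_bot_iff_of_injective _ (subtype_injective _)).1 e)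

theorem case_prime [Group.IsSolvable G] {p : ℕ} [hp : Fact p.Prime] (h : p ^ 2 ∣ Nat.card G)
    (hno : ∀ N : Subgroup G, N.Normal → N ≠ ⊥ → ¬ p ^ 2 ∣ N.index) {V : Subgroup G}
    (hV : IsMinNormal V) (hVp : Nat.card V = p) : 49 * p ≤ 60 * Nat.card (ConjClasses G) := by
  have := hV.normal
  have hc : IsMulCommutative V := hV.isMulCommutative
  obtain ⟨Ω, _, _, _, pr, φ, s, -, h1, h2, h3, h3'⟩ := exists_module hV hc
  rw [hVp] at h1
  have hVF : V ≤ fittingSubgroup G := le_fitting this (isNilpotent_of_isMulCommutative V)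
  have hCF := centralizer_fitting_le G
  have hF : IsPGroup p (fittingSubgroup G) := by
    refine (isPGroup_iff_primeFactors_card_subset hp.out.ne_zero).2 fun r hr => ?_
    obtain ⟨R, a, b, c⟩ := exists_normal_of_dvd_fitting (Nat.prime_of_mem_primeFactors hr)
      (Nat.dvd_of_mem_primeFactors hr)
    have := Fact.mk (Nat.prime_of_mem_primeFactors hr)
    obtain ⟨k, hk⟩ := IsPGroup.iff_card.1 c
    rw [hp.out.primeFactors, Finset.mem_singleton]
    by_contra e
    refine hno R a b (Nat.Coprime.dvd_of_dvd_mul_right (n := r ^ k) ?_ ?_)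
    · exact Nat.coprime_pow_primes _ _ hp.out this.out (Ne.symm e)
    · rwa [← hk, R.index_mul_card]
  have h4 : ¬ p ^ 3 ∣ Nat.card G := fun e => hno V this hV.ne_bot (by
    rwa [← V.index_mul_card, hVp, pow_succ, Nat.mul_dvd_mul_iff_right hp.out.pos] at e)
  have hFn := fitting_normal G
  generalize fittingSubgroup G = F at *
  obtain ⟨a, ha⟩ := IsPGroup.iff_card.1 hF
  have a2 : a < 3 := lt_of_not_ge fun e =>
    h4 ((pow_dvd_pow p e).trans (ha ▸ F.card_subgroup_dvd_card))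
  have hF2 : Nat.card F = p ^ 2 := by
    have h5 := card_le_of_le hVF
    have h6 := hp.out.one_lt
    obtain rfl | rfl | rfl : a = 0 ∨ a = 1 ∨ a = 2 := by omega
    · rw [pow_zero] at ha; omega
    · have e : V = F := eq_of_le_of_card_ge hVF (by rw [pow_one] at ha; omega)
      have : Nontrivial Ω := Finite.one_lt_card_iff_nontrivial.1 (by omega)
      have h7 : centralizer (V : Set G) ≤ V := e ▸ hCF
      have h8 := card_im_le_pow (hasBase_one_of_prime (G := (⊤ : Subgroup G)) h1)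
      have h9 := index_dvd_of_le h7
      rw [← h3, index_ker, MonoidHom.range_eq_top.2 h2, card_top] at h9
      rw [← V.index_mul_card, hVp, sq, Nat.mul_dvd_mul_iff_right hp.out.pos] at h
      have := Nat.le_of_dvd Nat.card_pos (h.trans h9)
      rw [h1, pow_one] at h8
      omega
    · exact ha
  have hFc := IsPGroup.isMulCommutative_of_card_eq_prime_sq hF2
  have hFC : F ≤ centralizer (F : Set G) := fun x hx y hy =>
    congrArg Subtype.val (mul_comm' (⟨y, hy⟩ : F) ⟨x, hx⟩)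
  obtain ⟨Ω', _, _, _, pr', s'⟩ := exists_sec (M := F) (C := V) (H := ⊤)
    (fun a ha b hb => by
      rw [commutatorElement_eq_one_iff_mul_comm.2 (hFC hb a ha)]; exact one_mem _)
    (normalizer_eq_top F).ge (normalizer_eq_top V).ge
  have b1 : Nat.card Ω' = p := by
    have := s'.card_mul hVF le_rfl ⊤ fun ω => ⟨fun _ => s'.surj ω, fun _ => trivial⟩
    rwa [AddSubgroup.card_top, hVp, hF2, sq, Nat.mul_left_inj hp.out.ne_zero] at this
  have b2 : ¬ p ∣ Nat.card (G ⧸ F) := fun e => h4 (by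
    rw [← F.index_mul_card, hF2, pow_succ']; exact Nat.mul_dvd_mul_right e _)
  have b3 : ∀ x y : G ⧸ F, x * y = y * x := fun x y => by
    obtain ⟨x, rfl⟩ := QuotientGroup.mk'_surjective F x
    obtain ⟨y, rfl⟩ := QuotientGroup.mk'_surjective F y
    rw [← commutatorElement_eq_one_iff_mul_comm, ← map_commutatorElement]
    have c1 : ⁅x, y⁆ ∈ centralizer (V : Set G) := h3 ▸ Subtype.ext (Equiv.ext fun ω =>
      (h3' _ ω).trans (smul_comm_of_prime h1 (⟨x, trivial⟩ : (⊤ : Subgroup G)) ⟨y, trivial⟩ ω))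
    have c2 : ∀ z ∈ F, z⁻¹ * (⁅x, y⁆ * z * ⁅x, y⁆⁻¹) ∈ V := fun z hz =>
      (s'.eq_iff hz (hFn.conj_mem _ hz _)).1 ((s'.conj ⟨⁅x, y⁆, trivial⟩ z hz).trans
        (smul_comm_of_prime b1 (⟨x, trivial⟩ : (⊤ : Subgroup G)) ⟨y, trivial⟩ _)).symm
    generalize ⁅x, y⁆ = g at c1 c2
    have c3 : g ^ p ∈ F := hCF fun z hz => by
      obtain ⟨v, hv, e⟩ : ∃ v ∈ V, g * z = z * (v * g) := ⟨_, c2 z hz, by group⟩
      have c4 : ∀ n : ℕ, g ^ n * z = z * (v * g) ^ n := fun n =>
        (SemiconjBy.pow_right (a := z) e.symm n).symm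
      have c5 : v ^ p = 1 := congrArg Subtype.val (hVp ▸ pow_card_eq_one' (x := (⟨v, hv⟩ : V)))
      rw [c4, Commute.mul_pow (c1 v hv), c5, one_mul]
    have c6 : QuotientGroup.mk' F g ^ p = 1 := by
      rw [← map_pow]; exact (QuotientGroup.eq_one_iff _).2 c3
    by_contra c7
    exact b2 (orderOf_eq_prime c6 c7 ▸ orderOf_dvd_natCard _)
  obtain ⟨t, t1, t2⟩ := exists_classes (QuotientGroup.mk' F) (QuotientGroup.mk'_surjective F) F
    (QuotientGroup.ker_mk' F).ge ((QuotientGroup.ker_mk' F).le.trans hFC)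
  have b4 := card_classes_eq (G ⧸ F)
  rw [cp_eq_one b3, one_mul] at b4
  refine (num_amgm ?_).trans (Nat.mul_le_mul_left _ t1)
  have b5 : (2 : ℚ) ≤ p := by exact_mod_cast hp.out.two_le
  have b6 : (p : ℚ) ^ 2 ≤ t * Nat.card (G ⧸ F) + 1 := by rw [hF2] at t2; exact_mod_cast t2
  rw [b4]
  nlinarith

theorem classes_ge_of_sq_dvd {p : ℕ} [hp : Fact p.Prime] (G : Type u) [Group G] [Finite G] :
    Group.IsSolvable G → p ^ 2 ∣ Nat.card G → 49 * p ≤ 60 * Nat.card (ConjClasses G) := by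
  refine card_induction (P := fun G _ _ => Group.IsSolvable G → p ^ 2 ∣ Nat.card G →
    49 * p ≤ 60 * Nat.card (ConjClasses G)) ?_ G
  intro G _ _ ih hG h
  rcases le_or_gt p 7 with h7 | h7
  · exact small_prime h h7
  have h11 : 11 ≤ p := by
    by_contra h8
    have := hp.out
    have : p ≤ 10 := by omega
    interval_cases p <;> norm_num at *
  by_cases hno : ∃ N : Subgroup G, N.Normal ∧ N ≠ ⊥ ∧ p ^ 2 ∣ N.index
  · obtain ⟨N, _, h1, h2⟩ := hno
    exact (ih _ (card_quotient_lt h1) inferInstance h2).trans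
      (Nat.mul_le_mul_left _ (classes_quotient_le N))
  push Not at hno
  have : Nontrivial G := Finite.one_lt_card_iff_nontrivial.1
    ((Nat.one_lt_pow two_ne_zero hp.out.one_lt).trans_le (Nat.le_of_dvd Nat.card_pos h))
  obtain ⟨V, hV⟩ := exists_isMinNormal G
  have hc : IsMulCommutative V := hV.isMulCommutative
  have h1 : p ∣ Nat.card V := by
    by_contra h1
    refine hno V hV.normal hV.ne_bot (Nat.Coprime.dvd_of_dvd_mul_right (n := Nat.card V) ?_ ?_)
    · exact ((hp.out.coprime_iff_not_dvd).2 h1).pow_left 2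
    · rwa [V.index_mul_card]
  have h2 := hV.pow_eq_one_of_prime_dvd hp.out h1
  by_cases hVp : Nat.card V = p
  · exact case_prime h hno hV hVp
  have h3 : p ^ 2 ≤ Nat.card V := by
    obtain ⟨k, hk⟩ := IsPGroup.iff_card.1 (show IsPGroup p V from fun v =>
      ⟨1, Subtype.ext (by simpa using h2 v v.2)⟩)
    rw [hk] at h1 hVp ⊢
    refine Nat.pow_le_pow_right hp.out.pos ?_
    by_contra h4
    obtain rfl | rfl : k = 0 ∨ k = 1 := by omega
    · exact hp.out.one_lt.ne' (Nat.dvd_one.1 h1)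
    · exact hVp (pow_one p)
  obtain ⟨Ω, _, _, _, pr, φ, s, hi, a1, a2, a3, -⟩ := exists_module hV hc
  obtain ⟨t, t1, t2⟩ := exists_classes φ a2 V (a3 ▸ fun x hx y hy =>
    congrArg Subtype.val (mul_comm' (⟨y, hy⟩ : V) ⟨x, hx⟩)) a3.le
  refine le_trans ?_ (Nat.mul_le_mul_left _ t1)
  have b4 := card_classes_eq (Im (⊤ : Subgroup G) Ω)
  rcases tri_im hp.out h11 inferInstance hi (fun v => by
    obtain ⟨a, ha, rfl⟩ := s.surj v
    rw [← s.pow ha, h2 a ha, s.one]) with b | b | ⟨b1, b2, m, b3, b5⟩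
  · exact absurd (a1.symm.trans b) hVp
  · refine num_amgm ?_
    have c1 : (121 : ℚ) ≤ Nat.card V := by exact_mod_cast (Nat.pow_le_pow_left h11 2).trans h3
    have c2 : (Nat.card V : ℚ) ≤ t * Nat.card (Im (⊤ : Subgroup G) Ω) + 1 := by exact_mod_cast t2
    have c3 := commProb_pos (Im (⊤ : Subgroup G) Ω)
    rw [a1] at b
    rw [b4]
    nlinarith [mul_le_mul_of_nonneg_left c1 c3.le, mul_le_mul_of_nonneg_left c2 c3.le,
      sq_nonneg (p : ℚ)]
  · refine num_exc h11 b3 ?_ (by rwa [← b5, ← b1, a1])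
    rw [b5] at b4
    have : ((4 * m : ℕ) : ℚ) ≤ Nat.card (ConjClasses (Im (⊤ : Subgroup G) Ω)) := by
      rw [b4]
      push_cast
      nlinarith [(Nat.cast_nonneg m : (0 : ℚ) ≤ m)]
    exact_mod_cast this

end Cfsg.Lib.KCl
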