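import Cfsg.Agent.KCl.Cent
import Cfsg.Agent.KCl.Main

/-! The class number of a solvable group and the primes dividing the index of `F(G)`. -/

set_option autoImplicit false

namespace Cfsg.Lib.KCl

open Subgroup Cfsg.Lib.Base Cfsg.Lib.Solv Polynomial

universe u

theorem sq_le_eight (j : ℕ) : (j + 2) ^ 2 ≤ 8 * 2 ^ j := by
  induction j with
  | zero => norm_num
  | succ t ih =>
    have : t + 1 ≤ 2 ^ t := Nat.lt_two_pow_self
    rw [pow_succ 2]; nlinarith

theorem num_log {p x d : ℕ} (h11 : 11 ≤ p) (h1 : p ≤ x * d) (h2 : 2 * 2 ^ d ≤ (x * d) ^ 2) :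
    p ≤ 3 * Nat.log 2 p * x := by
  have a1 : p < 2 ^ (Nat.log 2 p + 1) := Nat.lt_pow_succ_log_self (by norm_num) p
  have a2 : 3 ≤ Nat.log 2 p := Nat.le_log_of_pow_le (by norm_num) (by omega)
  generalize Nat.log 2 p = l at *
  by_contra h
  have h3 : 3 * l * x < p := by omega
  have h4 : 3 * l < d := Nat.lt_of_mul_lt_mul_left (a := x) (by nlinarith)
  obtain ⟨j, rfl⟩ := Nat.exists_eq_add_of_lt h4
  obtain ⟨i, rfl⟩ := Nat.exists_eq_add_of_le a2
  have h5 : 3 * (3 + i) + j + 1 ≤ 3 * (3 + i) * (j + 2) := by nlinarith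
  have h6 : x * (3 * (3 + i) + j + 1) ≤ 2 ^ (3 + i + 1) * (j + 2) := by
    calc _ ≤ x * (3 * (3 + i) * (j + 2)) := Nat.mul_le_mul_left _ h5
      _ = 3 * (3 + i) * x * (j + 2) := by ring
      _ ≤ _ := Nat.mul_le_mul_right _ (by omega)
  have h7 : x * (3 * (3 + i) + j + 1) ≠ 2 ^ (3 + i + 1) * (j + 2) := fun e => by
    have : 3 * (3 + i) * x * (j + 2) < 2 ^ (3 + i + 1) * (j + 2) :=
      Nat.mul_lt_mul_of_pos_right (by omega) (by omega)
    nlinarith [Nat.mul_le_mul_left x h5]
  have h8 := h2.trans_lt (Nat.pow_lt_pow_left (h6.lt_of_ne h7) two_ne_zero)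
  have h9 : (2 ^ (3 + i + 1) * (j + 2)) ^ 2 ≤ 2 * 2 ^ (3 * (3 + i) + j + 1) := by
    calc _ = 2 ^ (2 * i + 8) * (j + 2) ^ 2 := by ring
      _ ≤ 2 ^ (2 * i + 8) * (8 * 2 ^ j) := Nat.mul_le_mul_left _ (sq_le_eight j)
      _ ≤ 2 ^ (2 * i + 8) * (8 * 2 ^ j) * 2 ^ i := Nat.le_mul_of_pos_right _ (by positivity)
      _ = _ := by ring
  omega

theorem mem_centralizer_zpowers {H : Type*} [Group H] {a b z : H}
    (h : a * z * a⁻¹ = b * z * b⁻¹) : a⁻¹ * b ∈ centralizer (zpowers z : Set H) := by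
  rintro _ ⟨i, rfl⟩
  refine Commute.zpow_left (show z * (a⁻¹ * b) = a⁻¹ * b * z from ?_) i
  calc _ = a⁻¹ * (a * z * a⁻¹) * b := by group
    _ = _ := by rw [h]; group

theorem normal_prime {H V : Type u} [Group H] [Finite H] [AddCommGroup V] [Finite V]
    [DistribMulAction H V] [FaithfulSMul H V] (hH : Group.IsSolvable H) (hi : Irr H V) {p : ℕ}
    (hp : p.Prime) {z : H} (h1 : z ^ p = 1) (h0 : z ≠ 1) (hn : (zpowers z).Normal) :
    ∃ d : ℕ, p ≤ Nat.card (ConjClasses H) * d ∧
      (11 ≤ p → (2 : ℚ) ^ d ≤ commProb H * (d : ℚ) ^ 2 * Nat.card V) := by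
  have := Fact.mk hp
  let C := centralizer (zpowers z : Set H)
  have ho := orderOf_eq_prime h1 h0
  have hzC : zpowers z ≤ C := le_centralizer _
  refine ⟨C.index, ?_, fun h11 => ?_⟩
  · obtain ⟨t, t1, t2⟩ := exists_classes (QuotientGroup.mk' C) (QuotientGroup.mk'_surjective C)
      (zpowers z) (by rwa [QuotientGroup.ker_mk']) (QuotientGroup.ker_mk' C).le
    have a1 : 1 ≤ Nat.card (ConjClasses (H ⧸ C)) := Nat.card_pos
    have a2 : 1 ≤ C.index := Nat.card_pos
    rw [Nat.card_zpowers, ho, ← index_eq_card] at t2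
    nlinarith
  have hc : ∀ g : H, ∃ k : ℕ, z ^ k = g * z * g⁻¹ := fun g =>
    mem_powers_iff_mem_zpowers.2 (hn.conj_mem z (mem_zpowers z) g)
  choose k hk using hc
  have := hi.1
  have h2 : ∀ v : V, z • v = v → v = 0 := by
    let Y : AddSubgroup V :=
      { carrier := {v | z • v = v}
        zero_mem' := smul_zero z
        add_mem' := fun {a b} (ha : z • a = a) (hb : z • b = b) => by
          change z • (a + b) = a + b
          rw [smul_add, ha, hb]
        neg_mem' := fun {a} (ha : z • a = a) => by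
          change z • -a = -a
          rw [smul_neg, ha] }
    rcases hi.2 Y (fun g v hv => by
      have : z ^ k g⁻¹ ∈ MulAction.stabilizer H v :=
        pow_mem (MulAction.mem_stabilizer_iff.2 hv) _
      rw [hk, MulAction.mem_stabilizer_iff, inv_inv, mul_smul, mul_smul, inv_smul_eq_iff] at this
      exact this) with e | e
    · exact fun v hv => e.le hv
    · exact absurd (FaithfulSMul.eq_of_smul_eq_smul (α := V) fun v => by
        rw [one_smul]; exact e.ge (AddSubgroup.mem_top v)) h0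
  have a1 := rho_aux hp h11 _ C V rfl inferInstance (cr_of_normal hi C) ⟨z, hzC (mem_zpowers z)⟩
    (mem_center_iff.2 fun g => Subtype.ext (g.2 z (mem_zpowers z)).symm) (Subtype.ext h1) h2
  let e := Finite.equivFinOfCardEq (rfl : Nat.card (H ⧸ C) = C.index)
  have a2 : 2 ^ C.index ≤ rho V z := two_pow_le_index hp (by rw [← map_pow, h1, map_one]) h2
    (fun i => k (e.symm i).out) (fun i j h => e.symm.injective (by
      have h3 := pow_eq_pow_iff_modEq.2 (ho ▸ h : _ ≡ _ [MOD orderOf z])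
      rw [hk, hk] at h3
      rw [← (e.symm i).out_eq, ← (e.symm j).out_eq]
      refine QuotientGroup.eq.2 (mem_centralizer_zpowers h3)))
    fun i g hg => mem_ann.2 fun v => by
      have := map_aeval (a := DistribMulAction.toModuleEnd ℤ V z ^ k (e.symm i).out)
        (b := DistribMulAction.toModuleEnd ℤ V z) (DistribSMul.toAddMonoidHom V (e.symm i).out)
        (fun w => by
          rw [← map_pow, hk]
          generalize (e.symm i).out = x
          change x • z • w = (x * z * x⁻¹) • x • w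
          rw [mul_smul, inv_smul_smul, mul_smul]) g ((e.symm i).out⁻¹ • v)
      rw [mem_ann.1 hg, map_zero] at this
      simpa using this.symm
  calc (2 : ℚ) ^ C.index ≤ rho V z := by exact_mod_cast a2
    _ ≤ commProb C * Nat.card V := a1
    _ ≤ _ := mul_le_mul_of_nonneg_right (commProb_subgroup_le C) (by positivity)

theorem num_end {p k t d c v : ℕ} {x : ℚ} (hp : 2 ≤ p) (d1 : p ≤ k * d)
    (d2 : 11 ≤ p → (2 : ℚ) ^ d ≤ x * (d : ℚ) ^ 2 * v) (t2 : v ≤ t * c + 1) (e1 : 2 ≤ v) (e2 : 1 ≤ k)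
    (e5 : (k : ℚ) = x * c) (e6 : 0 < x) : p ≤ 3 * Nat.log 2 p * (k + t) := by
  have e3 : 1 ≤ t := Nat.pos_of_ne_zero (by rintro rfl; omega)
  rcases lt_or_ge p 11 with h11 | h11
  · refine le_trans ?_ (Nat.mul_le_mul_left _ (Nat.add_le_add e2 e3))
    interval_cases p <;> norm_num
  refine num_log (d := d) h11 (d1.trans (Nat.mul_le_mul_right _ (Nat.le_add_right _ _))) ?_
  have e7 : (v : ℚ) ≤ 2 * (t * c) := by exact_mod_cast (show v ≤ 2 * (t * c) by omega)
  have e8 := (d2 h11).trans (mul_le_mul_of_nonneg_left e7 (by positivity))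
  have e9 : (2 : ℚ) * 2 ^ d ≤ ((k + t) * d) ^ 2 := by
    have : (2 : ℚ) ^ d ≤ 2 * (k * t) * d ^ 2 := by rw [e5]; linarith
    nlinarith [mul_nonneg (sq_nonneg ((k : ℚ) - t)) (sq_nonneg (d : ℚ))]
  exact_mod_cast e9

theorem classes_ge_of_dvd_index {p : ℕ} [hp : Fact p.Prime] (G : Type u) [Group G] [Finite G] :
    Group.IsSolvable G → p ∣ (fittingSubgroup G).index →
      p ≤ 3 * Nat.log 2 p * Nat.card (ConjClasses G) := by
  refine card_induction (P := fun G _ _ => Group.IsSolvable G → p ∣ (fittingSubgroup G).index →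
    p ≤ 3 * Nat.log 2 p * Nat.card (ConjClasses G)) ?_ G
  intro G _ _ ih hG h
  have l1 : 1 ≤ Nat.log 2 p := Nat.le_log_of_pow_le (by norm_num) hp.out.two_le
  by_cases hsq : p ^ 2 ∣ Nat.card G
  · have := classes_ge_of_sq_dvd G hG hsq
    nlinarith
  have hF : ¬ p ∣ Nat.card (fittingSubgroup G) := fun e => hsq (by
    rw [← (fittingSubgroup G).index_mul_card, sq]; exact Nat.mul_dvd_mul h e)
  have hpG := h.trans (fittingSubgroup G).index_dvd_card
  have : Nontrivial G := Finite.one_lt_card_iff_nontrivial.1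
    (hp.out.one_lt.trans_le (Nat.le_of_dvd Nat.card_pos hpG))
  obtain ⟨V, hV⟩ := exists_isMinNormal G
  have := hV.normal
  have hc : IsMulCommutative V := hV.isMulCommutative
  by_cases h1 : p ∣ (fittingSubgroup (G ⧸ V)).index
  · exact (ih _ (card_quotient_lt hV.ne_bot) inferInstance h1).trans
      (Nat.mul_le_mul_left _ (classes_quotient_le V))
  have hVF : V ≤ fittingSubgroup G := le_fitting this (isNilpotent_of_isMulCommutative V)
  have h2 : p ∣ Nat.card (fittingSubgroup (G ⧸ V)) := by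
    rw [← V.index_mul_card] at hpG
    have h2 := (hp.out.dvd_mul.1 hpG).resolve_right fun e => hF (e.trans (card_dvd_of_le hVF))
    rw [index_eq_card, ← (fittingSubgroup (G ⧸ V)).index_mul_card] at h2
    exact (hp.out.dvd_mul.1 h2).resolve_left h1
  obtain ⟨R, hR, R0, hRp⟩ := exists_normal_of_dvd_fitting hp.out h2
  have h3 : Nat.card R = p := by
    obtain ⟨k, hk⟩ := IsPGroup.iff_card.1 hRp
    have a1 : k ≠ 0 := fun e => R0 (by rwa [e, pow_zero, card_eq_one] at hk)
    have a2 : k < 2 := lt_of_not_ge fun e => hsq ((pow_dvd_pow p e).trans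
      ((hk ▸ R.card_subgroup_dvd_card).trans V.index_dvd_card))
    rw [hk, show k = 1 by omega, pow_one]
  obtain ⟨Ω, _, _, _, pr, φ, s, hi, a1, a2, a3, -⟩ := exists_module hV hc
  have hVk : V ≤ φ.ker := a3 ▸ fun x hx y hy =>
    congrArg Subtype.val (mul_comm' (⟨y, hy⟩ : V) ⟨x, hx⟩)
  let ψ := QuotientGroup.lift V φ hVk
  have hψ : Function.Surjective ψ := QuotientGroup.lift_surjective_of_surjective V φ a2 hVk
  obtain ⟨⟨y, hy⟩, y0⟩ := ne_bot_iff_exists_ne_one.1 R0
  have b2 : y ^ p = 1 := by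
    have := pow_card_eq_one' (x := (⟨y, hy⟩ : R))
    rw [h3] at this
    exact congrArg Subtype.val this
  have b1 : zpowers y = R := eq_of_le_of_card_ge (by simpa using hy) (by
    rw [h3, Nat.card_zpowers, orderOf_eq_prime b2 fun e => y0 (Subtype.ext e)])
  have b3 : ψ y ≠ 1 := fun e => by
    have c1 : R.comap (QuotientGroup.mk' V) ≤ centralizer (V : Set G) := fun x hx => by
      have c0 : R ≤ ψ.ker := by rw [← b1]; exact zpowers_le.2 e
      rw [← a3]
      exact c0 hx
    have c2 := map_comap_eq_self_of_surjective (QuotientGroup.mk'_surjective V) R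
    have c3 := le_fitting inferInstance (isNilpotent_of_map_mk'_of_le_centralizer c1
      (by rw [c2]; exact hRp.isNilpotent))
    refine hF (dvd_trans ?_ (card_dvd_of_le c3))
    have := Subgroup.card_map_dvd (R.comap (QuotientGroup.mk' V)) (QuotientGroup.mk' V)
    rwa [c2, h3] at this
  obtain ⟨d, d1, d2⟩ := @normal_prime _ Ω _ _ _ _ (imAct _ Ω) faithful_im
    (isSolvable_im inferInstance) (Irr.im hi) p hp.out (ψ y) (by rw [← map_pow, b2, map_one]) b3
    (by rw [← MonoidHom.map_zpowers, b1]; exact hR.map ψ hψ)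
  obtain ⟨t, t1, t2⟩ := exists_classes φ a2 V hVk a3.le
  refine le_trans ?_ (Nat.mul_le_mul_left _ t1)
  rw [a1] at d2
  exact num_end hp.out.two_le d1 d2 t2 ((one_lt_card_iff_ne_bot V).2 hV.ne_bot) Nat.card_pos
    (card_classes_eq _) (commProb_pos _)

end Cfsg.Lib.KCl
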