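import Cfsg.Agent.KCl.Imp

/-! Alternating forms on finite abelian groups with values in the units of a field. -/

set_option autoImplicit false

namespace Cfsg.Lib.KCl

open Cfsg.Lib.Base

universe u

variable {K : Type*} [Field K] [Finite K]

omit [Finite K] in
theorem card_addHom_le (X : Type*) [AddCommGroup X] [Finite X] :
    Nat.card (X →+ Additive Kˣ) ≤ Nat.card X :=
  (Nat.card_congr AddMonoidHom.toMultiplicativeLeft).trans_le (card_hom_le (Multiplicative X) K)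

instance finite_addHom (X : Type*) [AddCommGroup X] [Finite X] : Finite (X →+ Additive Kˣ) :=
  Finite.of_injective _ DFunLike.coe_injective

variable {Ω : Type*} [AddCommGroup Ω] [Finite Ω] {B : Ω →+ Ω →+ Additive Kˣ}

/-- The annihilator of `L`. -/
def perp (B : Ω →+ Ω →+ Additive Kˣ) (L : AddSubgroup Ω) : AddSubgroup Ω where
  carrier := {x | ∀ y ∈ L, B x y = 0}
  zero_mem' := fun y _ => by simp
  add_mem' := fun ha hb y hy => by simp [ha y hy, hb y hy]
  neg_mem' := fun ha y hy => by simp [ha y hy]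

omit [Finite K] [Finite Ω] in
theorem alt_swap (h : ∀ x, B x x = 0) (x y : Ω) : B y x = -B x y := by
  have := h (x + y)
  simp only [map_add, AddMonoidHom.add_apply, h, zero_add, add_zero] at this
  exact eq_neg_of_add_eq_zero_left this

theorem card_le_perp_mul (T L : AddSubgroup Ω) :
    Nat.card T ≤ Nat.card (T ⊓ perp B L : AddSubgroup Ω) * Nat.card L := by
  let f : T →+ (L →+ Additive Kˣ) := (AddMonoidHom.compHom' L.subtype).comp (B.comp T.subtype)
  have h1 : f.ker = (T ⊓ perp B L).addSubgroupOf T := by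
    ext x
    simp only [AddMonoidHom.mem_ker, AddSubgroup.mem_addSubgroupOf, AddSubgroup.mem_inf, x.2,
      true_and]
    exact ⟨fun h y hy => DFunLike.congr_fun h ⟨y, hy⟩, fun h => AddMonoidHom.ext fun y => h y y.2⟩
  rw [← f.ker.card_mul_index, h1,
    Nat.card_congr (AddSubgroup.addSubgroupOfEquivOfLe inf_le_left).toEquiv, ← h1,
    AddSubgroup.index_ker]
  exact Nat.mul_le_mul_left _ ((AddSubgroup.card_le_card_addGroup _).trans (card_addHom_le L))

theorem mul_card_le {T L : AddSubgroup Ω} (hL : L ≤ T) (h : ∀ x ∈ L, ∀ y ∈ L, B x y = 0)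
    (hT : T ⊓ perp B T = ⊥) : Nat.card L * Nat.card L ≤ Nat.card T := by
  let f : L → (T ⧸ L.addSubgroupOf T →+ Additive Kˣ) := fun x =>
    QuotientAddGroup.lift _ ((B x).comp T.subtype) fun y hy => h x x.2 y hy
  have hf : Function.Injective f := fun x y e => by
    have : (x : Ω) - y ∈ T ⊓ perp B T := ⟨T.sub_mem (hL x.2) (hL y.2), fun z hz => by
      have : B x z = B y z := DFunLike.congr_fun e (QuotientAddGroup.mk (⟨z, hz⟩ : T))
      simp [this]⟩
    rw [hT] at this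
    exact Subtype.ext (sub_eq_zero.1 this)
  have h1 := (Nat.card_le_card_of_injective f hf).trans (card_addHom_le _)
  rw [← (L.addSubgroupOf T).index_mul_card,
    Nat.card_congr (AddSubgroup.addSubgroupOfEquivOfLe hL).toEquiv]
  exact Nat.mul_le_mul_right _ h1

theorem exists_card_eq_sq (h : ∀ x, B x x = 0) {T : AddSubgroup Ω} (hT : T ⊓ perp B T = ⊥) :
    ∃ e, Nat.card T = e * e := by
  obtain ⟨L, -, hL⟩ := Finite.exists_le_maximal
    (p := fun L : AddSubgroup Ω => L ≤ T ∧ ∀ x ∈ L, ∀ y ∈ L, B x y = 0) (a := ⊥)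
    ⟨bot_le, by simp⟩
  refine ⟨Nat.card L, le_antisymm ((card_le_perp_mul (B := B) T L).trans
    (Nat.mul_le_mul_right _ (AddSubgroup.card_le_of_le fun x hx => ?_))) (mul_card_le hL.1.1 hL.1.2 hT)⟩
  refine hL.2 (y := L ⊔ AddSubgroup.zmultiples x) ⟨sup_le hL.1.1 (by simpa using hx.1), ?_⟩
    le_sup_left (AddSubgroup.mem_sup_right (AddSubgroup.mem_zmultiples x))
  intro a' ha' b' hb'
  obtain ⟨a, ha, _, ⟨i, rfl⟩, rfl⟩ := AddSubgroup.mem_sup.1 ha'
  obtain ⟨b, hb, _, ⟨j, rfl⟩, rfl⟩ := AddSubgroup.mem_sup.1 hb'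
  simp [hL.1.2 a ha b hb, hx.2 b hb, alt_swap h x a, hx.2 a ha, h]

theorem surj_of_nondeg (h : ∀ x, (∀ y, B x y = 0) → x = 0) : Function.Surjective B :=
  (((injective_iff_map_eq_zero B).2 fun x hx => h x (DFunLike.congr_fun hx)).bijective_of_nat_card_le
    (card_addHom_le Ω)).2

/-- An alternating form without invariant isotropic subgroups. -/
structure Symp (Γ : Type*) [Group Γ] [DistribMulAction Γ Ω] (B : Ω →+ Ω →+ Additive Kˣ) :
    Prop where
  alt : ∀ x, B x x = 0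
  inv : ∀ (g : Γ) x y, B x y = 0 → B (g • x) (g • y) = 0
  iso : ∀ T : AddSubgroup Ω, Inv Γ T → (∀ x ∈ T, ∀ y ∈ T, B x y = 0) → T = ⊥

namespace Symp

variable {Γ : Type*} [Group Γ] [DistribMulAction Γ Ω] (h : Symp Γ B)
include h

omit [Finite K] [Finite Ω] in
theorem inv_perp {T : AddSubgroup Ω} (hT : Inv Γ T) : Inv Γ (perp B T) := fun g x hx y hy => by
  simpa using h.inv g x (g⁻¹ • y) (hx _ (hT _ y hy))

omit [Finite K] [Finite Ω] in
theorem inf_perp {T : AddSubgroup Ω} (hT : Inv Γ T) : T ⊓ perp B T = ⊥ :=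
  h.iso _ (fun g x hx => ⟨hT g x hx.1, h.inv_perp hT g x hx.2⟩) fun _ hx y hy => hx.2 y hy.1

omit [Finite K] [Finite Ω] in
theorem nondeg (x : Ω) (hx : ∀ y, B x y = 0) : x = 0 := by
  have : x ∈ ⊤ ⊓ perp B ⊤ := ⟨trivial, fun y _ => hx y⟩
  rwa [h.inf_perp (T := ⊤) fun _ _ _ => trivial] at this

theorem card_inv {T : AddSubgroup Ω} (hT : Inv Γ T) : ∃ e, Nat.card T = e * e :=
  exists_card_eq_sq h.alt (h.inf_perp hT)

theorem card_sq : ∃ e, Nat.card Ω = e * e := by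
  simpa using h.card_inv (T := ⊤) fun _ _ _ => trivial

theorem cr : CR Γ Ω := fun T hT => by
  refine ⟨perp B T, h.inv_perp hT, h.inf_perp hT, eq_top_iff.2 fun v _ => ?_⟩
  have h1 := card_le_perp_mul (B := B) ⊤ T
  rw [top_inf_eq, AddSubgroup.card_top, ← Nat.card_prod] at h1
  have h2 : Function.Injective fun x : perp B T × T => (x.2 : Ω) + x.1 := fun x y e => by
    have h3 : (x.2 : Ω) - y.2 = y.1 - x.1 := by
      rw [sub_eq_sub_iff_add_eq_add]; exact e.trans (add_comm _ _)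
    have h4 : (x.2 : Ω) - y.2 ∈ T ⊓ perp B T :=
      ⟨T.sub_mem x.2.2 y.2.2, h3 ▸ (perp B T).sub_mem y.1.2 x.1.2⟩
    rw [h.inf_perp hT, AddSubgroup.mem_bot] at h4
    exact Prod.ext (Subtype.ext (sub_eq_zero.1 (h3 ▸ h4)).symm) (Subtype.ext (sub_eq_zero.1 h4))
  obtain ⟨x, rfl⟩ := (h2.bijective_of_nat_card_le h1).2 v
  exact AddSubgroup.add_mem_sup x.2.2 x.1.2

omit [Finite K] [Finite Ω] in
theorem nsmul_eq_zero (r : ℕ) (b : Ω) (hb : r • r • b = 0) : r • b = 0 := by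
  have := h.iso ((nsmulAddMonoidHom r).range ⊓ (nsmulAddMonoidHom r).ker) ?_ ?_
  · have h1 : r • b ∈ (nsmulAddMonoidHom r).range ⊓ (nsmulAddMonoidHom r).ker := ⟨⟨b, rfl⟩, hb⟩
    rwa [this] at h1
  · rintro g _ ⟨⟨c, rfl⟩, hc⟩
    refine ⟨⟨g • c, smul_comm r g c⟩, ?_⟩
    change r • g • r • c = 0
    rw [smul_comm, show r • r • c = 0 from hc, smul_zero]
  · rintro _ ⟨⟨c, rfl⟩, -⟩ y ⟨-, hy⟩
    change B (r • c) y = 0
    rw [map_nsmul, AddMonoidHom.nsmul_apply, ← map_nsmul, show r • y = 0 from hy, map_zero]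

omit [Finite K] in
theorem exists_order {r : ℕ} (hr : r.Prime) (hd : r ∣ Nat.card Ω) :
    ∃ x y, r • x = 0 ∧ addOrderOf (B x y) = r := by
  have := Fact.mk hr
  obtain ⟨x, hx⟩ := exists_prime_addOrderOf_dvd_card' r hd
  have h0 : r • x = 0 := hx ▸ addOrderOf_nsmul_eq_zero x
  have h1 : x ≠ 0 := fun e => hr.one_lt.ne (by rw [← hx, e, addOrderOf_zero])
  obtain ⟨y, hy⟩ := not_forall.1 (mt (h.nondeg x) h1)
  exact ⟨x, y, h0, addOrderOf_eq_prime (by rw [← AddMonoidHom.nsmul_apply, ← map_nsmul, h0]; simp) hy⟩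

omit [Finite K] in
theorem dvd_card {r : ℕ} (hr : r.Prime) (hd : r ∣ Nat.card Ω) : r ∣ Nat.card Kˣ := by
  obtain ⟨x, y, -, e⟩ := h.exists_order hr hd
  exact e ▸ addOrderOf_dvd_natCard (B x y)

omit [Finite K] in
theorem exists_order_six (hd : Nat.card Ω = 36) : ∃ x y, addOrderOf (B x y) = 6 := by
  obtain ⟨x, y, h1, h2⟩ := h.exists_order Nat.prime_two (by rw [hd]; norm_num)
  obtain ⟨z, w, h3, h4⟩ := h.exists_order Nat.prime_three (by rw [hd]; norm_num)
  have a1 : ∀ v, 2 • B x v = 0 := fun v => by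
    rw [← AddMonoidHom.nsmul_apply, ← map_nsmul, h1]; simp
  have a2 : ∀ v, 3 • B z v = 0 := fun v => by
    rw [← AddMonoidHom.nsmul_apply, ← map_nsmul, h3]; simp
  refine ⟨x + z, 3 • y + 4 • w, ?_⟩
  have : B (x + z) (3 • y + 4 • w) = B x y + B z w := by
    simp only [map_add, AddMonoidHom.add_apply, map_nsmul]
    calc _ = B x y + B z w + (2 • B x y + 3 • B z y + 2 • 2 • B x w + 3 • B z w) := by abel
      _ = _ := by rw [a1, a1, a2, a2]; simp
  rw [this, (AddCommute.all _ _).addOrderOf_add_eq_mul_addOrderOf_of_coprime (by rw [h2, h4]; norm_num),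
    h2, h4]

end Symp

omit [Finite K] in
theorem card_im_le_pair {A : Type*} [Group A] [DistribMulAction A Ω] (h : ∀ x, B x x = 0)
    (hA : ∀ (g : A) x y, B (g • x) (g • y) = B x y) {e : ℕ} (he : 1 < e) (hΩ : Nat.card Ω = e * e)
    {x y : Ω} (ho : addOrderOf (B x y) = e) : Nat.card (Im A Ω) ≤ (e * e - 1) * e := by
  have : Nonempty A := ⟨1⟩
  have key : ∀ i j : Fin e, i.1 • B x y = j.1 • B x y → i = j := fun i j hij =>
    Fin.ext (nsmul_injOn_Iio_addOrderOf (by simp [ho]) (by simp [ho]) hij)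
  let f : Fin e × Fin e → Ω := fun p => p.1.1 • x + p.2.1 • y
  have f1 : ∀ p, B (f p) y = p.1.1 • B x y := fun p => by simp [f, h]
  have f2 : ∀ p, B x (f p) = p.2.1 • B x y := fun p => by simp [f, h]
  have hf : Function.Injective f := fun p q e =>
    Prod.ext (key _ _ (by rw [← f1, ← f1, e])) (key _ _ (by rw [← f2, ← f2, e]))
  obtain ⟨c, hc⟩ := (hf.bijective_of_nat_card_le (by simp [hΩ])).2.hasRightInverse
  have x0 : x ≠ 0 := fun e => by simp [e] at ho; omega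
  let s : Ω → A := Function.invFun fun g : A => g • x
  have hs : ∀ g : A, s (g • x) • x = g • x := fun g =>
    Function.invFun_eq (f := fun g : A => g • x) ⟨g, rfl⟩
  have h1 := card_im_le (X := Ω) (Y := {v : Ω | v ≠ 0} × Fin e) (fun g : A =>
    (⟨g • x, fun e => x0 ((smul_eq_zero_iff_eq g).1 e)⟩, (c ((s (g • x))⁻¹ • g • y)).1))
    fun g g' e v => ?_
  · rwa [Nat.card_prod, card_ne_zero_set, hΩ, Nat.card_fin] at h1
  obtain ⟨e1, e2⟩ := Prod.ext_iff.1 e
  have e1 : g • x = g' • x := congrArg Subtype.val e1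
  have a : ∀ g : A, B x ((s (g • x))⁻¹ • g • y) = B x y := fun g => by
    rw [← hA (s (g • x)), hs, smul_inv_smul, hA]
  have e3 : c ((s (g • x))⁻¹ • g • y) = c ((s (g' • x))⁻¹ • g' • y) :=
    Prod.ext e2 (key _ _ (by rw [← f2, ← f2, hc, hc, a, a]))
  have e4 := congrArg f e3
  rw [hc, hc, e1, smul_left_cancel_iff] at e4
  rw [← hc v]
  simp only [f, smul_add, smul_comm g, smul_comm g', e1, e4]

theorem perm_three {α : Type*} (h : Nat.card α = 3) (σ : Equiv.Perm α) :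
    σ ^ 2 = 1 ∨ (σ ^ 3 = 1 ∧ ∀ i, σ i ≠ i) := by
  have : Finite α := Nat.finite_of_card_ne_zero (by omega)
  let e := Finite.equivFinOfCardEq h
  have key : ∀ τ : Equiv.Perm (Fin 3), τ ^ 2 = 1 ∨ (τ ^ 3 = 1 ∧ ∀ i, τ i ≠ i) := by decide
  have h1 : ∀ n, e.permCongrHom σ ^ n = 1 → σ ^ n = 1 := fun n hn => by
    rwa [← map_pow, EmbeddingLike.map_eq_one_iff] at hn
  refine (key (e.permCongrHom σ)).imp (h1 2) fun h => ⟨h1 3 h.1, fun i hi => h.2 (e i) ?_⟩
  simp [hi]

theorem aut_four {A : Type*} [Group A] [DistribMulAction A Ω] (h : Nat.card Ω = 4) (g : A) :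
    (∀ v : Ω, g ^ 2 • v = v) ∨ ((∀ v : Ω, g ^ 3 • v = v) ∧ ∀ v : Ω, g • v = v → v = 0) := by
  let σ := (MulAction.toPerm g).subtypePerm (p := fun v : Ω => v ≠ 0)
    fun v => (smul_eq_zero_iff_eq g).not
  have h1 : ∀ n, σ ^ n = 1 → ∀ v : Ω, g ^ n • v = v := fun n hn v => by
    by_cases hv : v = 0
    · simp [hv]
    have := congrArg Subtype.val (Equiv.congr_fun hn ⟨v, hv⟩)
    have h2 : MulAction.toPermHom A Ω (g ^ n) v = v := by
      simpa [σ, ← MulAction.toPermHom_apply, ← map_pow] using this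
    exact h2
  refine (perm_three ((card_ne_zero_set Ω).trans (by rw [h])) σ).imp (h1 2) fun h =>
    ⟨h1 3 h.1, fun v hv => by_contra fun h0 => h.2 ⟨v, h0⟩ (Subtype.ext hv)⟩

end Cfsg.Lib.KCl
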