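import Cfsg.Agent.KCl.Cp
import Cfsg.Agent.Base.PrimMain
import Cfsg.Agent.Base.RedMain

/-! Imprimitive modules: orders and commuting probabilities. -/

set_option autoImplicit false

namespace Cfsg.Lib.KCl

open Subgroup Cfsg.Lib.Base

universe u

section Perm

variable {G X : Type*} [Group G] [MulAction G X]

theorem card_im_le {Y : Type*} [Finite Y] (F : G → Y)
    (h : ∀ g g', F g = F g' → ∀ v : X, g • v = g' • v) :
    Nat.card (MulAction.toPermHom G X).range ≤ Nat.card Y := by
  choose s hs using fun a : (MulAction.toPermHom G X).range => a.2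
  refine Nat.card_le_card_of_injective (fun a => F (s a)) fun a b e => Subtype.ext ?_
  rw [← hs a, ← hs b]
  exact Equiv.ext (h _ _ e)

theorem card_im_le_of_base [Finite X] {k : ℕ} {x : Fin k → X} (hx : IsBase G x)
    (T : Fin k → Set X) (hT : ∀ (g : G) i, g • x i ∈ T i) :
    Nat.card (MulAction.toPermHom G X).range ≤ ∏ i, Nat.card (T i) := by
  rw [← Nat.card_pi]
  refine card_im_le (fun g i => (⟨g • x i, hT g i⟩ : T i)) fun g g' e v => ?_
  have := hx (g'⁻¹ * g) (fun i => by
    rw [mul_smul, inv_smul_eq_iff]; exact congrArg Subtype.val (congrFun e i)) v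
  rwa [mul_smul, inv_smul_eq_iff] at this

theorem card_im_of_faithful [FaithfulSMul G X] :
    Nat.card (MulAction.toPermHom G X).range = Nat.card G :=
  (Nat.card_congr (MonoidHom.ofInjective MulAction.toPerm_injective).toEquiv).symm

end Perm

section Mod

variable {G V : Type*} [Group G] [AddCommGroup V] [DistribMulAction G V]

theorem card_ne_zero_set (V : Type*) [Zero V] [Finite V] :
    Nat.card {v : V | v ≠ 0} = Nat.card V - 1 := by
  classical
  have := Fintype.ofFinite V
  simp [Finset.filter_ne', Finset.card_erase_of_mem]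

theorem card_im_le_pow [Finite V] [Nontrivial V] {k : ℕ} (h : HasBase G V k) :
    Nat.card (Im G V) ≤ (Nat.card V - 1) ^ k := by
  classical
  obtain ⟨x, hx⟩ := h
  refine (card_im_le_of_base hx (fun i => if x i = 0 then {0} else {v | v ≠ 0}) fun g i => ?_).trans
    ((Finset.prod_le_pow_card _ _ (Nat.card V - 1) fun i _ => ?_).trans (by simp))
  · split_ifs with h
    · simp [h]
    · exact fun e => h ((smul_eq_zero_iff_eq g).1 e)
  · split_ifs
    · have := Finite.one_lt_card (α := V)
      simp only [Nat.card_unique]; omega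
    · exact (card_ne_zero_set V).le

theorem card_im_le_factorial [Finite V] : Nat.card (Im G V) ≤ (Nat.card V - 1).factorial := by
  rw [← card_ne_zero_set, ← Nat.card_perm]
  refine card_im_le (fun g => (MulAction.toPerm g).subtypePerm (p := fun v : V => v ≠ 0)
    fun v => (smul_eq_zero_iff_eq g).not) fun g g' e v => ?_
  by_cases hv : v = 0
  · simp [hv]
  · exact congrArg Subtype.val (Equiv.congr_fun e ⟨v, hv⟩)

theorem hasBase_one_of_prime [Finite V] {p : ℕ} [Fact p.Prime] (h : Nat.card V = p) :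
    HasBase G V 1 := by
  have : Nontrivial V := Finite.one_lt_card_iff_nontrivial.1 (h ▸ (Fact.out : p.Prime).one_lt)
  obtain ⟨x, hx⟩ := exists_ne (0 : V)
  refine ⟨fun _ => x, fun g hg v => ?_⟩
  obtain ⟨k, rfl⟩ := mem_zmultiples_of_prime_card h hx (g' := v)
  change g • k • x = k • x
  rw [smul_comm, hg 0]

theorem cp_im_of_prime [Finite V] {p : ℕ} [Fact p.Prime] (h : Nat.card V = p) :
    commProb (Im G V) = 1 := by
  refine cp_eq_one ?_
  rintro ⟨_, a, rfl⟩ ⟨_, b, rfl⟩
  refine Subtype.ext (Equiv.ext fun v => ?_)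
  change a • b • v = b • a • v
  by_cases hv : v = 0
  · simp [hv]
  obtain ⟨i, hi⟩ := mem_zmultiples_of_prime_card h hv (g' := a • v)
  obtain ⟨j, hj⟩ := mem_zmultiples_of_prime_card h hv (g' := b • v)
  change i • v = a • v at hi
  change j • v = b • v at hj
  rw [← hj, smul_comm a, ← hi, smul_comm b, ← hj, smul_comm]

theorem Irr.im (h : Irr G V) : @Irr (Im G V) _ V _ (imAct G V) :=
  ⟨h.1, fun U hU => h.2 U (inv_im.1 hU)⟩

theorem faithful_im : @FaithfulSMul (Im G V) V (imAct G V).toSMul :=
  inferInstanceAs (FaithfulSMul (Im G V) V)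

variable {H : Subgroup G} {W W' : AddSubgroup V}

theorem pow_le_card [Finite G] [Finite V] (hd : Disjoint W W')
    (hout : ∀ g ∉ H, ∀ w ∈ W, g • w ∈ W') : Nat.card W ^ H.index ≤ Nat.card V := by
  classical
  have := Fintype.ofFinite (G ⧸ H)
  rw [index_eq_card, ← Nat.card_fun]
  let f : (G ⧸ H → W) →+ V := AddMonoidHom.mk' (fun x => ∑ c, c.out • (x c : V)) fun x y => by
    simp [smul_add, Finset.sum_add_distrib]
  refine Nat.card_le_card_of_injective f ((injective_iff_map_eq_zero f).2 fun x hx => ?_)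
  funext d
  have h1 : d.out⁻¹ • ∑ c, c.out • (x c : V) = 0 := by
    rw [show ∑ c, c.out • (x c : V) = 0 from hx, smul_zero]
  rw [Finset.smul_sum, ← Finset.add_sum_erase _ _ (Finset.mem_univ d), inv_smul_smul,
    add_eq_zero_iff_eq_neg] at h1
  refine Subtype.ext ((AddSubgroup.disjoint_def.1 hd) (x d).2 (h1 ▸ neg_mem (sum_mem fun c hc => ?_)))
  rw [← mul_smul]
  refine hout _ (fun h => (Finset.mem_erase.1 hc).1 ?_) _ (x c).2
  rw [← c.out_eq, ← d.out_eq]
  exact (QuotientGroup.eq.2 h).symm

theorem exists_emb [FaithfulSMul G V] (hirr : Irr G V) (hW : Inv H W) (hW0 : W ≠ ⊥) :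
    ∃ f : H.normalCore →* (G ⧸ H → @Im H W _ _ (resAct hW)), Function.Injective f := by
  let _ := resAct hW
  have hm : ∀ (k : H.normalCore) (a : G), a⁻¹ * k * a ∈ H := fun k a => by
    simpa using k.2 a⁻¹
  let c : G → H.normalCore →* H := fun a => MonoidHom.mk' (fun k => ⟨_, hm k a⟩) fun k l =>
    Subtype.ext (by simp [mul_assoc])
  refine ⟨MonoidHom.pi fun d => (MulAction.toPermHom H W).rangeRestrict.comp (c d.out),
    (injective_iff_map_eq_one _).2 fun k hk => ?_⟩
  have htriv : ∀ (d : G ⧸ H), ∀ w ∈ W, (k : G) • d.out • w = d.out • w := by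
    intro d w hw
    have h1 := congrArg Subtype.val (Equiv.congr_fun (congrArg Subtype.val (congrFun hk d)) ⟨w, hw⟩)
    have h2 : (d.out⁻¹ * k * d.out) • w = w := h1
    rwa [mul_smul, mul_smul, inv_smul_eq_iff] at h2
  let Y : AddSubgroup V :=
    { carrier := {v | ∀ a : G, (k : G) • a • v = a • v}
      zero_mem' := fun a => by rw [smul_zero, smul_zero]
      add_mem' := fun ha hb a => by rw [smul_add, smul_add, ha a, hb a]
      neg_mem' := fun ha a => by rw [smul_neg, smul_neg, ha a] }
  have hWY : W ≤ Y := by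
    intro w hw a
    obtain ⟨h, hh⟩ := QuotientGroup.mk_out_eq_mul H a
    have := htriv (a : G ⧸ H) _ (hW h⁻¹ w hw)
    rwa [hh, Subgroup.smul_def, ← mul_smul (a * h), Subgroup.coe_inv, mul_inv_cancel_right]
      at this
  rcases hirr.2 Y (fun a v hv a' => by rw [← mul_smul a']; exact hv _) with h | h
  · exact absurd (le_bot_iff.1 (h ▸ hWY)) hW0
  · refine Subtype.ext (FaithfulSMul.eq_of_smul_eq_smul (α := V) fun v => ?_)
    have : v ∈ Y := h ▸ AddSubgroup.mem_top _
    simpa using this 1

theorem cp_pow_le [Finite G] [Finite V] [FaithfulSMul G V] (hirr : Irr G V) (hW : Inv H W)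
    (hW0 : W ≠ ⊥) : commProb (@Im H W _ _ (resAct hW)) ^ H.index ≤
      commProb G * (H.normalCore.index : ℚ) ^ 2 := by
  obtain ⟨f, hf⟩ := exists_emb hirr hW hW0
  have := Fintype.ofFinite (G ⧸ H)
  rw [index_eq_card, Nat.card_eq_fintype_card, ← commProb_function]
  exact (cp_le_of_injective f hf).trans (commProb_subgroup_le _)

theorem card_le_core_mul [Finite G] [Finite V] [FaithfulSMul G V] (hirr : Irr G V) (hW : Inv H W)
    (hW0 : W ≠ ⊥) :
    Nat.card G ≤ H.normalCore.index * Nat.card (@Im H W _ _ (resAct hW)) ^ H.index := by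
  obtain ⟨f, hf⟩ := exists_emb hirr hW hW0
  rw [← H.normalCore.index_mul_card, index_eq_card H, ← Nat.card_fun]
  exact Nat.mul_le_mul_left _ (Nat.card_le_card_of_injective f hf)

end Mod

theorem index_core_le_factorial {G : Type*} [Group G] [Finite G] (H : Subgroup G) :
    H.normalCore.index ≤ H.index.factorial := by
  rw [normalCore_eq_ker, index_ker, index_eq_card, ← Nat.card_perm]
  exact card_le_card_group _

theorem num_core (t : ℕ) : 17 * ((t + 8) * (t + 7) ^ 3) ^ 2 ≤ 100 * 11 ^ (t + 6) := by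
  induction t with
  | zero => norm_num
  | succ t ih =>
    have h1 : (t + 1 + 8) * (t + 1 + 7) ^ 3 ≤ 3 * ((t + 8) * (t + 7) ^ 3) := by
      have : (t + 9) * (t + 8) ^ 2 ≤ 3 * (t + 7) ^ 3 := by ring_nf; omega
      calc _ = (t + 8) * ((t + 9) * (t + 8) ^ 2) := by ring
        _ ≤ (t + 8) * (3 * (t + 7) ^ 3) := Nat.mul_le_mul_left _ this
        _ = _ := by ring
    have h2 := Nat.pow_le_pow_left h1 2
    rw [show t + 1 + 6 = t + 6 + 1 by ring, pow_succ 11]
    nlinarith

theorem index_core_le {G : Type u} [Group G] [Finite G] (hG : Group.IsSolvable G) {H : Subgroup G}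
    (hH : IsCoatom H) : 2 ≤ H.index ∧ H.index ≠ 6 ∧
      H.normalCore.index ≤ H.index * (H.index - 1) ^ 3 ∧
      (H.index.Prime → H.normalCore.index ≤ H.index * (H.index - 1)) := by
  obtain ⟨M, _, _, e, hM, he⟩ := exists_affine hG hH
  have : Finite M := Finite.of_equiv _ e
  have hMc : Nat.card M = H.index := (Nat.card_congr e).symm
  have := hM.1
  choose h m he using he
  have key : H.normalCore.index ≤ H.index * Nat.card (Im H M) := by
    rw [normalCore_eq_ker, index_ker, ← hMc, ← Nat.card_prod]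
    refine card_im_le (fun g => (m g, (MulAction.toPermHom H M).rangeRestrict (h g)))
      fun g g' hg c => e.injective ?_
    obtain ⟨h1, h2⟩ := Prod.ext_iff.1 hg
    have h3 : h g • e c = h g' • e c := Equiv.congr_fun (congrArg Subtype.val h2) (e c)
    rw [he, he, h3, show m g = m g' from h1]
  refine ⟨hMc ▸ Finite.one_lt_card, fun h6 => ?_, key.trans (Nat.mul_le_mul_left _ ?_),
    fun hp => key.trans (Nat.mul_le_mul_left _ ?_)⟩
  · obtain ⟨r, hr, -, hv⟩ := hM.exists_prime
    have aux : ∀ q, q.Prime → q ∣ 6 → q = r := fun q hq h => by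
      have := Fact.mk hq
      obtain ⟨v, hv'⟩ := exists_prime_addOrderOf_dvd_card' (G := M) q (by rwa [hMc, h6])
      exact (Nat.prime_dvd_prime_iff_eq hq hr).1 (hv' ▸ addOrderOf_dvd_of_nsmul_eq_zero (hv v))
    have := (aux 2 Nat.prime_two (by norm_num)).trans (aux 3 Nat.prime_three (by norm_num)).symm
    omega
  · exact hMc ▸ card_im_le_pow (concl_of_primCase primCase inferInstance hM.cr).1
  · have := Fact.mk hp
    simpa [hMc] using card_im_le_pow (G := H) (hasBase_one_of_prime hMc)

theorem core_sq_le {G : Type u} [Group G] [Finite G] (hG : Group.IsSolvable G) {H : Subgroup G}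
    (hH : IsCoatom H) : 17 * H.normalCore.index ^ 2 ≤ 100 * 11 ^ (H.index - 2) := by
  obtain ⟨h2, h6, h3, hp⟩ := index_core_le hG hH
  have h4 := index_core_le_factorial H
  generalize H.index = s at *
  generalize H.normalCore.index = c at *
  rcases Nat.lt_or_ge s 8 with h | h
  · interval_cases s
    · simp [Nat.factorial] at h4 ⊢; nlinarith
    · simp [Nat.factorial] at h4 ⊢; nlinarith
    · simp [Nat.factorial] at h4 ⊢; nlinarith
    · have := hp (by norm_num)
      simp at this ⊢; nlinarith
    · exact absurd rfl h6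
    · have := hp (by norm_num)
      simp at this ⊢; nlinarith
  · obtain ⟨t, rfl⟩ := Nat.exists_eq_add_of_le' h
    exact (Nat.mul_le_mul_left _ (Nat.pow_le_pow_left h3 2)).trans (num_core t)

end Cfsg.Lib.KCl
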