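import Cfsg.Agent.KCl.Two

/-! Commuting probability of irreducible solvable linear groups in characteristic at least 11. -/

set_option autoImplicit false

namespace Cfsg.Lib.KCl

open Subgroup Cfsg.Lib.Base Cfsg.Lib.Base.Setup

universe u

theorem num_fin {x T Y Z : ℚ} {m M f : ℕ} (hm : 1 ≤ m) (hM : m ≤ M) (hx0 : 0 ≤ x) (hY : 0 ≤ Y)
    (hT0 : 0 ≤ T) (hx : (3 * (m : ℚ) - 2) / (m : ℚ) ^ 2 ≤ x * (f : ℚ) ^ 2)
    (hT : T * (f : ℚ) ^ 2 * Y ≤ Z) (h : 17 * (M : ℚ) ^ 2 ≤ 100 * T * (3 * M - 2)) :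
    17 * Y ≤ 100 * x * Z := by
  have a1 : (1 : ℚ) ≤ m := by exact_mod_cast hm
  have a2 : (m : ℚ) ≤ M := by exact_mod_cast hM
  have a0 : (0 : ℚ) < M := by linarith
  have h1 : (3 * (M : ℚ) - 2) / (M : ℚ) ^ 2 ≤ (3 * (m : ℚ) - 2) / (m : ℚ) ^ 2 := by
    rw [div_le_div_iff₀ (by positivity) (by positivity)]
    rcases hM.eq_or_lt with rfl | h2
    · rfl
    · have a3 : (m : ℚ) + 1 ≤ M := by exact_mod_cast h2
      have : 0 ≤ ((M : ℚ) - m) * (3 * M * m - 2 * (M + m)) :=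
        mul_nonneg (by linarith) (by nlinarith)
      nlinarith
  have h2 : 17 ≤ 100 * T * ((3 * (M : ℚ) - 2) / (M : ℚ) ^ 2) := by
    rw [← mul_div_assoc, le_div_iff₀ (by positivity)]; exact h
  have h3 : 17 ≤ 100 * T * (x * (f : ℚ) ^ 2) :=
    h2.trans (mul_le_mul_of_nonneg_left (h1.trans hx) (by positivity))
  calc 17 * Y ≤ 100 * T * (x * (f : ℚ) ^ 2) * Y := mul_le_mul_of_nonneg_right h3 hY
    _ = 100 * x * (T * (f : ℚ) ^ 2 * Y) := by ring
    _ ≤ _ := mul_le_mul_of_nonneg_left hT (by positivity)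

theorem three_sq_le (t : ℕ) : 3 * (t + 2) ^ 2 ≤ 121 ^ (t + 1) := by
  induction t with
  | zero => norm_num
  | succ t ih => rw [pow_succ 121]; nlinarith [Nat.zero_le t]

theorem sq_le_four (t : ℕ) : (t + 2) ^ 2 ≤ 4 * 11 ^ t := by
  induction t with
  | zero => norm_num
  | succ t ih => rw [pow_succ 11]; nlinarith [Nat.zero_le t]

theorem eight_le (t : ℕ) : 17 * (t + 8) ^ 8 ≤ 200 * 11 ^ (t + 6) := by
  induction t with
  | zero => norm_num
  | succ t ih =>
    have h1 : 8 * (t + 1 + 8) ≤ 9 * (t + 8) := by omega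
    have h2 := Nat.pow_le_pow_left h1 8
    rw [mul_pow, mul_pow] at h2
    rw [show t + 1 + 6 = t + 6 + 1 by ring, pow_succ 11]
    omega

theorem pow_bound {p t s : ℕ} (hp : 11 ≤ p) :
    3 * 11 ^ s * (t + 2) ^ 2 * p ^ 2 ≤ p ^ ((t + 2) * (s + 2)) := by
  have h1 : 121 ^ (t + 1) ≤ p ^ ((t + 1) * (s + 2)) := by
    rw [mul_comm, pow_mul]
    exact Nat.pow_le_pow_left ((Nat.pow_le_pow_left hp 2).trans
      (Nat.pow_le_pow_right (by omega) (by omega))) _
  calc _ = 3 * (t + 2) ^ 2 * (11 ^ s * p ^ 2) := by ring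
    _ ≤ p ^ ((t + 1) * (s + 2)) * (p ^ s * p ^ 2) := Nat.mul_le_mul ((three_sq_le t).trans h1)
      (Nat.mul_le_mul_right _ (Nat.pow_le_pow_left hp s))
    _ = _ := by ring

theorem num_main {x : ℚ} {p f n e m : ℕ} (hp : p.Prime) (h11 : 11 ≤ p) (hf : 0 < f)
    (hx0 : 0 ≤ x) (hm : 1 ≤ m) (hx : (3 * (m : ℚ) - 2) / (m : ℚ) ^ 2 ≤ x * (f : ℚ) ^ 2)
    (e0 : 0 < e) (en : e ≤ n) (e3 : e = 3 → 3 ∣ p ^ f - 1) (h8 : m ≤ e ^ 8)
    (hpr : e.Prime ∨ e = 6 → m ≤ e * e * ((e * e - 1) * e)) (h4 : e = 4 → m ≤ 1152)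
    (h2 : e = 2 → m ≤ 16 ∨ m = 24) :
    (f = 1 ∧ n = 1) ∨ 17 * (p : ℚ) ^ 2 ≤ 100 * x * (p : ℚ) ^ (f * n) ∨
      (f = 1 ∧ e = 2 ∧ n = 2 ∧ m = 24) := by
  have fin : ∀ (T : ℚ) (M : ℕ), m ≤ M → 0 ≤ T → T * (f : ℚ) ^ 2 * (p : ℚ) ^ 2 ≤ (p : ℚ) ^ (f * n) →
      17 * (M : ℚ) ^ 2 ≤ 100 * T * (3 * M - 2) →
      17 * (p : ℚ) ^ 2 ≤ 100 * x * (p : ℚ) ^ (f * n) := fun T M a b c d =>
    num_fin hm a hx0 (by positivity) b hx c d
  rcases Nat.eq_or_lt_of_le (e0.trans_le en : 1 ≤ n) with rfl | hn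
  · rcases Nat.eq_or_lt_of_le (hf : 1 ≤ f) with rfl | hf
    · exact Or.inl ⟨rfl, rfl⟩
    obtain ⟨t, rfl⟩ := Nat.exists_eq_add_of_le' hf
    obtain rfl : e = 1 := by omega
    refine Or.inr (Or.inl (fin (1 / 4) 1 (by simpa using h8) (by norm_num) ?_ (by norm_num)))
    have h1 : (t + 2) ^ 2 * p ^ 2 ≤ 4 * p ^ ((t + 2) * 1) := by
      calc _ ≤ 4 * p ^ t * p ^ 2 := Nat.mul_le_mul_right _ ((sq_le_four t).trans
            (Nat.mul_le_mul_left _ (Nat.pow_le_pow_left h11 t)))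
        _ = _ := by ring
    have h2 := (Nat.cast_le (α := ℚ)).2 h1
    push_cast at h2 ⊢
    linarith
  obtain ⟨s, rfl⟩ := Nat.exists_eq_add_of_le' hn
  right
  have T2 : 2 ≤ f → 3 * 11 ^ s * (f : ℚ) ^ 2 * (p : ℚ) ^ 2 ≤ (p : ℚ) ^ (f * (s + 2)) := fun h => by
    obtain ⟨t, rfl⟩ := Nat.exists_eq_add_of_le' h
    exact_mod_cast pow_bound h11
  have T0 : ∀ T : ℕ, T ≤ p ^ s → (T : ℚ) * ((1 : ℕ) : ℚ) ^ 2 * (p : ℚ) ^ 2 ≤
      (p : ℚ) ^ (1 * (s + 2)) := fun T h => by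
    have : T * 1 ^ 2 * p ^ 2 ≤ p ^ (1 * (s + 2)) := by
      rw [one_pow, mul_one, one_mul, pow_add]; exact Nat.mul_le_mul_right _ h
    exact_mod_cast this
  have T1 : 11 ^ s * (f : ℚ) ^ 2 * (p : ℚ) ^ 2 ≤ (p : ℚ) ^ (f * (s + 2)) := by
    rcases Nat.eq_or_lt_of_le (hf : 1 ≤ f) with rfl | hf
    · exact_mod_cast T0 _ (Nat.pow_le_pow_left h11 s)
    · refine le_trans ?_ (T2 hf)
      have : (0 : ℚ) ≤ 11 ^ s * (f : ℚ) ^ 2 * (p : ℚ) ^ 2 := by positivity
      linarith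
  rcases Nat.lt_or_ge s 6 with hs | hs
  swap
  · obtain ⟨t, rfl⟩ := Nat.exists_eq_add_of_le' hs
    refine Or.inl (fin _ ((t + 8) ^ 8) (h8.trans (Nat.pow_le_pow_left en 8)) (by positivity) T1 ?_)
    have h1 := (Nat.cast_le (α := ℚ)).2 (eight_le t)
    have h2 : (2 : ℚ) ≤ ((t + 8) ^ 8 : ℕ) := by
      exact_mod_cast (show 2 ≤ 8 ^ 8 by norm_num).trans (Nat.pow_le_pow_left (by omega) 8)
    have h3 : (0 : ℚ) ≤ 11 ^ (t + 6) := by positivity
    rw [Nat.cast_mul, Nat.cast_mul, Nat.cast_pow 11] at h1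
    generalize (((t + 8) ^ 8 : ℕ) : ℚ) = M at *
    push_cast at h1
    nlinarith
  have b1 : e ≤ 2 → m ≤ 24 := fun h => by
    interval_cases e
    · omega
    · rcases h2 rfl with h | h <;> omega
  have b3 : e ≤ 3 → m ≤ 216 := fun h => by
    rcases h.eq_or_lt with rfl | h
    · exact hpr (Or.inl Nat.prime_three)
    · have := b1 (by omega); omega
  have b4 : e ≤ 4 → m ≤ 1152 := fun h => by
    rcases h.eq_or_lt with rfl | h
    · exact h4 rfl
    · have := b3 (by omega); omega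
  have b5 : e ≤ 5 → m ≤ 3000 := fun h => by
    rcases h.eq_or_lt with rfl | h
    · exact hpr (Or.inl Nat.prime_five)
    · have := b4 (by omega); omega
  have b7 : e ≤ 7 → m ≤ 16464 := fun h => by
    obtain rfl | rfl | h : e = 7 ∨ e = 6 ∨ e ≤ 5 := by omega
    · exact hpr (Or.inl (by norm_num))
    · have := hpr (Or.inr rfl); omega
    · have := b5 h; omega
  interval_cases s
  · rcases Nat.eq_or_lt_of_le (hf : 1 ≤ f) with rfl | hf
    · by_cases h : m ≤ 16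
      · exact Or.inl (fin _ _ h (by positivity) T1 (by norm_num))
      · obtain rfl | rfl : e = 1 ∨ e = 2 := by omega
        · omega
        · exact Or.inr ⟨rfl, rfl, rfl, (h2 rfl).resolve_left h⟩
    · exact Or.inl (fin _ _ (b1 en) (by positivity) (T2 hf) (by norm_num))
  · left
    rcases en.eq_or_lt with rfl | h
    · rcases Nat.eq_or_lt_of_le (hf : 1 ≤ f) with rfl | hf
      · have h13 : 13 ≤ p := by
          have := e3 rfl
          rw [pow_one] at this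
          by_contra h
          obtain rfl | rfl : p = 11 ∨ p = 12 := by omega
          · omega
          · omega
        exact fin _ _ (b3 le_rfl) (by positivity) (T0 13 (by simpa using h13)) (by norm_num)
      · exact fin _ _ (b3 le_rfl) (by positivity) (T2 hf) (by norm_num)
    · exact fin _ _ (b1 (by omega)) (by positivity) T1 (by norm_num)
  · exact Or.inl (fin _ _ (b4 en) (by positivity) T1 (by norm_num))
  · exact Or.inl (fin _ _ (b5 en) (by positivity) T1 (by norm_num))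
  · exact Or.inl (fin _ _ (b7 (by omega)) (by positivity) T1 (by norm_num))
  · exact Or.inl (fin _ _ (b7 en) (by positivity) T1 (by norm_num))

/-- The three possibilities for a faithful irreducible module. -/
def Tri (p : ℕ) (G V : Type*) [Group G] : Prop :=
  Nat.card V = p ∨ 17 * (p : ℚ) ^ 2 ≤ 100 * commProb G * Nat.card V ∨
    (Nat.card V = p ^ 2 ∧ 1 / 6 ≤ commProb G ∧ ∃ m, m ∣ p - 1 ∧ Nat.card G = 24 * m)

variable {G V : Type u} [Group G] [Finite G] [AddCommGroup V] [Finite V] [DistribMulAction G V]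
  [FaithfulSMul G V] {p : ℕ}

theorem tri_of_prim (hp : p.Prime) (h11 : 11 ≤ p) (hG : Group.IsSolvable G) (h : Prim G V)
    (hV : ∀ v : V, p • v = 0) : Tri p G V := by
  obtain ⟨K, _, _, _, Γ, _, _, _, _, _, S, hdvd, φ, hφ⟩ := h.exists_setup
  have := h.1.1
  have hi : Function.Injective φ := fun a b e =>
    FaithfulSMul.eq_of_smul_eq_smul (α := V) fun v => by rw [← hφ, ← hφ, e]
  have h1 := Module.natCard_eq_pow_finrank (K := K) (V := V)
  have := Fact.mk hp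
  have := Fintype.ofFinite K
  have : CharP K p := (CharP.charP_iff_prime_eq_zero hp).2 (by
    obtain ⟨v, hv⟩ := exists_ne (0 : V)
    exact (smul_eq_zero.1 ((Nat.cast_smul_eq_nsmul K p v).trans (hV v))).resolve_right hv)
  obtain ⟨f, hf, hK⟩ : ∃ f : ℕ, 0 < f ∧ Nat.card K = p ^ f := by
    obtain ⟨f, -, hK⟩ := FiniteField.card K p
    exact ⟨f, f.2, by rw [← hK, Nat.card_eq_fintype_card]⟩
  rw [hK, ← pow_mul] at h1
  obtain ⟨e, e0, en, h3, h8, hpr, h4, h2⟩ := setup_num S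
  have := S.normal
  have hc := index_A_le S hp hK
  have a1 := le_cp_three (QuotientGroup.mk' (S.U.subgroupOf S.A))
    (QuotientGroup.mk'_surjective _) (by rw [QuotientGroup.ker_mk']; exact U_le_center S)
  have a2 := cp_le_of_injective φ hi
  have a3 : commProb S.A ≤ commProb G * (f : ℚ) ^ 2 := (commProb_subgroup_le _).trans
    (mul_le_mul a2 (pow_le_pow_left₀ (by positivity) (by exact_mod_cast hc) 2) (by positivity)
      (commProb_pos G).le)
  rcases num_main hp h11 hf (commProb_pos G).le (m := S.U.relIndex S.A) Nat.card_pos (a1.trans a3)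
    e0 en (fun e3 => by rw [← hK, ← Nat.card_units]; exact h3 3 Nat.prime_three (e3 ▸ dvd_rfl))
    h8 hpr h4 (fun e2 => (h2 e2).imp_right And.left) with ⟨b1, b2⟩ | b | ⟨b1, b2, b3, b4⟩
  · exact Or.inl (by rw [h1, b2, b1, mul_one, pow_one])
  · exact Or.inr (Or.inl (by rw [h1]; exact_mod_cast b))
  · rw [b1] at hc a3 hK h1
    refine Or.inr (Or.inr ⟨by rw [h1, b3], ?_, ?_⟩)
    · simpa using ((h2 b2).resolve_left (by omega)).2.trans a3
    · have c1 : S.A.index = 1 := le_antisymm hc (Nat.pos_of_ne_zero index_ne_zero_of_finite)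
      have c2 : S.U.index = 24 := by rw [← relIndex_mul_index U_le_A, b4, c1]
      obtain ⟨m, hm⟩ := hdvd
      have c3 := card_dvd_of_injective φ hi
      rw [← S.U.index_mul_card, hm, card_U, hK, pow_one] at c3
      exact ⟨m, Nat.dvd_of_mul_dvd_mul_left (Nat.pos_of_ne_zero index_ne_zero_of_finite) c3,
        c2 ▸ hm⟩

theorem Tri.le {G V : Type*} [Group G] [AddCommGroup V] [Finite V] [DistribMulAction G V]
    (hp : p.Prime) (h11 : 11 ≤ p) (h : Tri p (Im G V) V) :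
    (p : ℚ) ≤ commProb (Im G V) * Nat.card V := by
  have := Fact.mk hp
  have a : (11 : ℚ) ≤ p := by exact_mod_cast h11
  rcases h with h | h | ⟨h1, h2, -⟩
  · rw [cp_im_of_prime h, h, one_mul]
  · nlinarith
  · rw [h1]; push_cast; nlinarith

theorem tri_aux (hp : p.Prime) (h11 : 11 ≤ p) (n : ℕ) : ∀ (G V : Type u) [Group G] [Finite G]
    [AddCommGroup V] [Finite V] [DistribMulAction G V] [FaithfulSMul G V], Nat.card V = n →
    Group.IsSolvable G → Irr G V → (∀ v : V, p • v = 0) → Tri p G V := by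
  induction n using Nat.strong_induction_on with
  | _ n ih =>
  intro G V _ _ _ _ _ _ hn hG h hV
  by_cases hpr : Prim G V
  · exact tri_of_prim hp h11 hG hpr hV
  obtain ⟨H, W, W', hH, hW, hd, hout, hW0⟩ := exists_blocks h hpr
  have h1 := pow_le_card hd hout
  have h2 := cp_pow_le h hW hW0
  have h3 := core_sq_le hG hH
  obtain ⟨s, hs⟩ := Nat.exists_eq_add_of_le' (index_core_le hG hH).1
  let _ := resAct hW
  have h4 := Tri.le hp h11 (@ih _ (hn ▸ card_block_lt hH.1 hd hout hW0) (Im H W) W _ _ _ _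
    (imAct H W) faithful_im rfl (isSolvable_im inferInstance) (Irr.im (irr_block h hW hd hout hW0))
    fun v => Subtype.ext (hV v))
  rw [hs] at h1 h2 h3
  refine Or.inr (Or.inl ?_)
  have h5 := pow_le_pow_left₀ (by positivity) h4 (s + 2)
  have h6 : ((Nat.card W : ℚ)) ^ (s + 2) ≤ Nat.card V := by exact_mod_cast h1
  have h7 : 17 * (H.normalCore.index : ℚ) ^ 2 ≤ 100 * (p : ℚ) ^ s := by
    exact_mod_cast h3.trans (Nat.mul_le_mul_left _ (Nat.pow_le_pow_left h11 s))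
  have h8 := commProb_pos G
  rw [mul_pow] at h5
  replace h5 := h5.trans (mul_le_mul h2 h6 (by positivity) (by positivity))
  have h9 : (0 : ℚ) < (p : ℚ) ^ s := pow_pos (Nat.cast_pos.2 hp.pos) s
  refine le_of_mul_le_mul_left ?_ h9
  calc _ = 17 * (p : ℚ) ^ (s + 2) := by ring
    _ ≤ 17 * (commProb G * (H.normalCore.index : ℚ) ^ 2 * Nat.card V) := by linarith
    _ = (commProb G * Nat.card V) * (17 * (H.normalCore.index : ℚ) ^ 2) := by ring
    _ ≤ (commProb G * Nat.card V) * (100 * (p : ℚ) ^ s) :=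
      mul_le_mul_of_nonneg_left h7 (by positivity)
    _ = _ := by ring

theorem tri_im {G V : Type u} [Group G] [AddCommGroup V] [Finite V] [DistribMulAction G V]
    (hp : p.Prime) (h11 : 11 ≤ p) (hG : Group.IsSolvable G) (h : Irr G V)
    (hV : ∀ v : V, p • v = 0) : Tri p (Im G V) V :=
  @tri_aux p hp h11 _ (Im G V) V _ _ _ _ (imAct G V) faithful_im rfl (isSolvable_im hG) (Irr.im h) hV

end Cfsg.Lib.KCl
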