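import Cfsg.Agent.KCl.Setup2

/-! The ring generated by a central operator bounds the commuting probability. -/

set_option autoImplicit false

namespace Cfsg.Lib.KCl

open Subgroup Cfsg.Lib.Base Cfsg.Lib.Base.Setup Polynomial

universe u

section Ann

variable {V W : Type*} [AddCommGroup V] [AddCommGroup W]

/-- The annihilator of an additive endomorphism in `ℤ[X]`. -/
noncomputable def ann (a : Module.End ℤ V) : AddSubgroup ℤ[X] :=
  (aeval a : ℤ[X] →ₐ[ℤ] _).toRingHom.toAddMonoidHom.ker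

theorem mem_ann {a : Module.End ℤ V} {g : ℤ[X]} : g ∈ ann a ↔ ∀ v, aeval a g v = 0 :=
  LinearMap.ext_iff

theorem map_aeval {a : Module.End ℤ V} {b : Module.End ℤ W} (f : W →+ V)
    (h : ∀ w, f (b w) = a (f w)) (g : ℤ[X]) (w : W) : f (aeval b g w) = aeval a g (f w) := by
  have hp : ∀ n w, f ((b ^ n) w) = (a ^ n) (f w) := fun n => by
    induction n with
    | zero => simp
    | succ n ih => intro w; simp [pow_succ', h, ih]
  induction g using Polynomial.induction_on' with
  | add p q hp hq => simp [hp, hq]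
  | monomial n c => simp [aeval_monomial, hp]

theorem index_ann_ne_zero [Finite V] (a : Module.End ℤ V) : (ann a).index ≠ 0 := by
  have : Finite (Module.End ℤ V) := Finite.of_injective _ DFunLike.coe_injective
  rw [ann, AddSubgroup.index_ker]
  exact Nat.card_pos.ne'

theorem index_ann_le [Finite W] {a : Module.End ℤ V} {b : Module.End ℤ W} (h : ann b ≤ ann a) :
    (ann a).index ≤ (ann b).index :=
  Nat.le_of_dvd (Nat.pos_of_ne_zero (index_ann_ne_zero b)) (AddSubgroup.index_dvd_of_le h)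

theorem le_index_ann [Finite V] {ι : Type*} (a : Module.End ℤ V) (g : ι → ℤ[X])
    (h : Function.Injective fun i => aeval a (g i)) : Nat.card ι ≤ (ann a).index := by
  have : Finite (Module.End ℤ V) := Finite.of_injective _ DFunLike.coe_injective
  rw [ann, AddSubgroup.index_ker]
  exact Nat.card_le_card_of_injective (fun i => ⟨_, g i, rfl⟩) fun i j e =>
    h (congrArg Subtype.val e)

theorem index_ann_le_card {K : Type*} [Field K] [Finite K] [Module K V] (L : Subfield K) {c : K}
    (hc : c ∈ L) {a : Module.End ℤ V} (h : ∀ v, a v = c • v) : (ann a).index ≤ Nat.card L := by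
  have h1 : ∀ (g : ℤ[X]) v, aeval a g v = (aeval (⟨c, hc⟩ : L) g : L) • v := fun g => by
    have hp : ∀ n v, (a ^ n) v = c ^ n • v := fun n => by
      induction n with
      | zero => simp
      | succ n ih => intro v; simp [pow_succ, h, ih, mul_smul]
    induction g using Polynomial.induction_on' with
    | add p q hp hq => intro v; simp [hp, hq, add_smul]
    | monomial n c => intro v; simp [aeval_monomial, hp, mul_smul, Subfield.smul_def, Int.cast_smul_eq_zsmul]
  let ψ := (aeval (⟨c, hc⟩ : L) : ℤ[X] →ₐ[ℤ] _).toRingHom.toAddMonoidHom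
  have h2 : ψ.ker.index ≤ Nat.card L := by
    rw [AddSubgroup.index_ker]; exact AddSubgroup.card_le_card_addGroup _
  refine le_trans (Nat.le_of_dvd (Nat.pos_of_ne_zero ?_) (AddSubgroup.index_dvd_of_le
    fun g hg => mem_ann.2 fun v => ?_)) h2
  · rw [AddSubgroup.index_ker]; exact Nat.card_pos.ne'
  · rw [h1, show aeval (⟨c, hc⟩ : L) g = 0 from hg, zero_smul]

theorem exists_root [Nontrivial V] (a : Module.End ℤ V) :
    ∃ (F : Type) (_ : Field F) (ζ : F), ∀ g : ℤ[X], aeval a g = 0 → aeval ζ g = 0 := by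
  obtain ⟨m, hm, hI⟩ := Ideal.exists_le_maximal _
    (RingHom.ker_ne_top (aeval a : ℤ[X] →ₐ[ℤ] _).toRingHom)
  have key : ∀ (F : Type) [Field F] (χ : ℤ[X] →+* F) (g : ℤ[X]), aeval (χ X) g = χ g :=
    fun F _ χ g => RingHom.congr_fun (f := (aeval (χ X) : ℤ[X] →ₐ[ℤ] F).toRingHom)
      (Polynomial.ringHom_ext' (RingHom.ext_int _ _) (by simp)) g
  let _ := Ideal.Quotient.field m
  exact ⟨ℤ[X] ⧸ m, _, Ideal.Quotient.mk m X, fun g hg =>
    (key _ (Ideal.Quotient.mk m) g).trans (Ideal.Quotient.eq_zero_iff_mem.2 (hI hg))⟩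

theorem two_pow_le_index [Finite V] [Nontrivial V] {a : Module.End ℤ V} {p d : ℕ} (hp : p.Prime)
    (h1 : a ^ p = 1) (h2 : ∀ v, a v = v → v = 0) (e : Fin d → ℕ)
    (he : ∀ i j, e i ≡ e j [MOD p] → i = j)
    (hc : ∀ i, ann a ≤ ann (a ^ e i)) : 2 ^ d ≤ (ann a).index := by
  have : Finite (Module.End ℤ V) := Finite.of_injective _ DFunLike.coe_injective
  have := Fact.mk hp
  obtain ⟨F, _, ζ, hz⟩ := exists_root a
  have z1 : ζ ^ p = 1 := by
    have := hz (X ^ p - 1) (by simp [h1])
    rwa [map_sub, map_pow, aeval_X, map_one, sub_eq_zero] at this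
  have z2 : ζ ≠ 1 := fun e1 => by
    have hu : IsUnit (a - 1) := (Module.End.isUnit_iff _).2 (Finite.injective_iff_bijective.1
      ((injective_iff_map_eq_zero _).2 fun v hv => h2 v (sub_eq_zero.1 hv)))
    have h3 : (a - 1) ^ orderOf hu.unit = 1 := by
      have := congrArg Units.val (pow_orderOf_eq_one hu.unit)
      rwa [Units.val_pow_eq_pow_val] at this
    have h0 := (orderOf_pos hu.unit).ne'
    generalize orderOf hu.unit = n at h0 h3
    have h4 := hz ((X - 1) ^ n - 1) (by simp [h3])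
    simp [e1, h0] at h4
  have hi : Function.Injective fun i => ζ ^ e i := fun i j h =>
    he i j (by
      have h3 : ζ ^ e i = ζ ^ e j := h
      have h4 := (isOfFinOrder_iff_pow_eq_one.2 ⟨p, hp.pos, z1⟩).pow_eq_pow_iff_modEq.1 h3
      rwa [orderOf_eq_prime z1 z2] at h4)
  let P : (Fin d → Fin 2) → ℤ[X] := fun c => ∑ i : Fin d, ((c i : ℕ) : ℤ[X]) * X ^ (i : ℕ)
  refine le_trans (by simp) (le_index_ann a P fun c c' h => ?_)
  have h0 : P c - P c' ∈ ann a := mem_ann.2 fun v => by
    rw [map_sub, show aeval a (P c) = aeval a (P c') from h, sub_self]; rfl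
  have h3 := Matrix.eq_zero_of_forall_index_sum_mul_pow_eq_zero (f := fun i => ζ ^ e i)
    (v := fun i => ((c i : ℕ) : F) - (c' i : ℕ)) hi fun j => by
      have h4 : aeval (a ^ e j) (P c - P c') = 0 := LinearMap.ext (mem_ann.1 (hc j h0))
      have h5 := hz ((P c - P c').comp (X ^ e j)) (by rw [aeval_comp, map_pow, aeval_X]; exact h4)
      rw [aeval_comp, map_pow, aeval_X] at h5
      simpa only [P, sub_mul, Finset.sum_sub_distrib, map_sub, map_sum, map_mul, map_natCast,
        map_pow, aeval_X] using h5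
  funext i
  have h4 : ((c i : ℕ) : F) = (c' i : ℕ) := sub_eq_zero.1 (congrFun h3 i)
  generalize c i = x at h4
  generalize c' i = y at h4
  fin_cases x <;> fin_cases y <;> simp at h4 ⊢

end Ann

section Clifford

variable {G V : Type*} [Group G] [AddCommGroup V] [DistribMulAction G V]

theorem cr_of_normal [Finite V] (h : Irr G V) (N : Subgroup G) [hN : N.Normal] : CR N V := by
  intro U hU
  have := h.1
  obtain ⟨T, -, hT⟩ := Finite.exists_le_minimal
    (p := fun T : AddSubgroup V => Inv N T ∧ T ≠ ⊥) (a := ⊤) ⟨fun _ _ _ => trivial, top_ne_bot⟩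
  obtain ⟨W, -, hW⟩ := Finite.exists_le_maximal
    (p := fun W : AddSubgroup V => Inv N W ∧ U ⊓ W = ⊥) (a := ⊥)
    ⟨fun g v hv => by rw [AddSubgroup.mem_bot.1 hv, smul_zero]; exact zero_mem _, inf_bot_eq _⟩
  have hs : ∀ {X Y : AddSubgroup V}, Inv N X → Inv N Y → Inv N (X ⊔ Y) := fun hX hY n v hv => by
    obtain ⟨a, ha, b, hb, rfl⟩ := AddSubgroup.mem_sup.1 hv
    rw [smul_add]
    exact AddSubgroup.add_mem_sup (hX n a ha) (hY n b hb)
  have hc : ∀ (g : G) {X : AddSubgroup V}, Inv N X →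
      Inv N (X.comap (DistribSMul.toAddMonoidHom V g)) := fun g X hX n v hv => by
    have := hX ⟨_, hN.conj_mem _ n.2 g⟩ _ hv
    change (g * n * g⁻¹) • g • v ∈ X at this
    rwa [mul_smul, inv_smul_smul, mul_smul] at this
  have key : ∀ g : G, ∀ t ∈ T, g • t ∈ U ⊔ W := fun g => by
    by_contra h1
    have h2 : T ⊓ (U ⊔ W).comap (DistribSMul.toAddMonoidHom V g) = ⊥ := by
      by_contra h2
      exact h1 fun t ht => (hT.2 (y := T ⊓ _) ⟨fun n v hv => ⟨hT.1.1 n v hv.1,
        hc g (hs hU hW.1.1) n v hv.2⟩, h2⟩ inf_le_left ht).2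
    let T' := T.comap (DistribSMul.toAddMonoidHom V g⁻¹)
    have h3 : ∀ v ∈ T', v ∈ U ⊔ W → v = 0 := fun v hv hv' => by
      have : g⁻¹ • v ∈ T ⊓ (U ⊔ W).comap (DistribSMul.toAddMonoidHom V g) :=
        ⟨hv, by simpa using hv'⟩
      rw [h2] at this
      exact (smul_eq_zero_iff_eq _).1 this
    have h4 := hW.2 (y := W ⊔ T') ⟨hs hW.1.1 (hc _ hT.1.1), eq_bot_iff.2 fun u hu => by
      obtain ⟨a, ha, b, hb, e⟩ := AddSubgroup.mem_sup.1 hu.2
      have h5 := h3 b hb (by
        rw [eq_sub_of_add_eq' e]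
        exact sub_mem (AddSubgroup.mem_sup_left hu.1) (AddSubgroup.mem_sup_right ha))
      rw [h5, add_zero] at e
      exact hW.1.2.le ⟨hu.1, e ▸ ha⟩⟩ le_sup_left
    exact h1 fun t ht => AddSubgroup.mem_sup_right
      (h4 (AddSubgroup.mem_sup_right (show g⁻¹ • g • t ∈ T by rwa [inv_smul_smul])))
  refine ⟨W, hW.1.1, hW.1.2, ?_⟩
  let Y : AddSubgroup V :=
    { carrier := {v | ∀ g : G, g • v ∈ U ⊔ W}
      zero_mem' := fun g => by rw [smul_zero]; exact zero_mem _
      add_mem' := fun ha hb g => by rw [smul_add]; exact add_mem (ha g) (hb g)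
      neg_mem' := fun ha g => by rw [smul_neg]; exact neg_mem (ha g) }
  rcases h.2 Y (fun g v hv a => by rw [← mul_smul]; exact hv _) with e | e
  · exact absurd (eq_bot_iff.2 fun t ht => e.le fun g => key g t ht) hT.1.2
  · exact eq_top_iff.2 fun v _ => by simpa using e.ge (AddSubgroup.mem_top v) 1

end Clifford

end Cfsg.Lib.KCl
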