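import Cfsg.Agent.KCl.Prim

/-! Primitive modules with a central element among the scalars. -/

set_option autoImplicit false

namespace Cfsg.Lib.KCl

open Cfsg.Lib.Base Cfsg.Lib.Base.Setup

universe u v

section

variable {G : Type u} [Group G] {V : Type v} [AddCommGroup V] [DistribMulAction G V]

open scoped IsMulCommutative in
theorem exists_setup_center [Finite G] [Group.IsSolvable G] [Finite V] (h : Prim G V) :
    ∃ (K : Type v) (_ : Field K) (_ : Finite K) (_ : Module K V) (Γ : Type v) (_ : Group Γ)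
      (_ : Finite Γ) (_ : Group.IsSolvable Γ) (_ : DistribMulAction Γ V) (_ : FaithfulSMul Γ V)
      (S : Setup K V Γ) (f : G →* Γ), (∀ (g : G) (v : V), f g • v = g • v) ∧
        ∀ z ∈ Subgroup.center G, f z ∈ S.ι.range := by
  have hV := h.1.1
  let R := Module.End ℤ V
  have : Finite R := Finite.of_injective _ DFunLike.coe_injective
  let φ : G →* Rˣ := (DistribMulAction.toModuleEnd ℤ V).toHomUnits
  let P : Subgroup Rˣ → Prop := fun B => B ≤ φ.range ∧ (∀ g : G, ∀ b ∈ B, φ g * b * (φ g)⁻¹ ∈ B) ∧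
    ∀ a ∈ B, ∀ b ∈ B, a * b = b * a
  obtain ⟨U, hZ, hU⟩ := Finite.exists_le_maximal (p := P) (a := (Subgroup.center G).map φ)
    ⟨Subgroup.map_le_range _ _, by
      rintro g _ ⟨z, hz, rfl⟩
      exact ⟨z, hz, by rw [← map_mul, Subgroup.mem_center_iff.1 hz, map_mul, mul_inv_cancel_right]⟩,
    by
      rintro _ ⟨z, hz, rfl⟩ _ ⟨w, -, rfl⟩
      rw [← map_mul, ← map_mul, Subgroup.mem_center_iff.1 hz]⟩
  let K : Subring R := Subring.closure (Units.val '' (U : Set Rˣ))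
  have : IsMulCommutative K := Subring.isMulCommutative_closure (by
    rintro _ ⟨a, ha, rfl⟩ _ ⟨b, hb, rfl⟩
    exact congrArg Units.val (hU.1.2.2 a ha b hb))
  have hK : ∀ (g : G), ∀ a ∈ K, (φ g : R) * a * ((φ g)⁻¹ : Rˣ) ∈ K := by
    intro g a ha
    induction ha using Subring.closure_induction with
    | mem x hx =>
      obtain ⟨b, hb, rfl⟩ := hx
      exact Subring.subset_closure ⟨_, hU.1.2.1 g b hb, rfl⟩
    | zero => simp
    | one => simp
    | add x y _ _ hx hy => simpa [mul_add, add_mul] using K.add_mem hx hy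
    | neg x _ hx => rw [mul_neg, neg_mul]; exact K.neg_mem hx
    | mul x y _ _ hx hy => simpa [mul_assoc] using K.mul_mem hx hy
  have hinv : ∀ u : Rˣ, (u : R) ∈ K → ((u⁻¹ : Rˣ) : R) ∈ K := fun u hu => by
    have h1 : u⁻¹ = u ^ (orderOf u - 1) := by
      rw [inv_eq_iff_mul_eq_one, ← pow_succ', Nat.sub_add_cancel (orderOf_pos u), pow_orderOf_eq_one]
    rw [h1, Units.val_pow_eq_pow_val]
    exact K.pow_mem hu _
  have hF : IsField K := by
    refine ⟨⟨0, 1, fun e => ?_⟩, mul_comm, fun {a} ha => ?_⟩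
    · obtain ⟨v, hv⟩ := exists_ne (0 : V)
      exact hv (congrArg (fun k : K => (k : R) v) e).symm
    have h1 := (h.zero_or_inj (K := K) (fun g a => ⟨⟨_, hK g a a.2⟩, fun v => by
      change φ g • ((a : R) v) = ((φ g : R) * a * ((φ g)⁻¹ : Rˣ)) (φ g • v)
      rw [Module.End.mul_apply, Module.End.mul_apply]
      exact congrArg (fun w => φ g • (a : R) w) (inv_smul_smul (φ g) v).symm⟩) a).resolve_left
      fun e => ha (Subtype.ext (LinearMap.ext e))
    have h2 : IsUnit (a : R) := (Module.End.isUnit_iff _).2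
      (Finite.injective_iff_bijective.1 ((injective_iff_map_eq_zero _).2 h1))
    exact ⟨⟨_, hinv h2.unit a.2⟩, Subtype.ext h2.mul_val_inv⟩
  let UK : Subgroup Rˣ :=
    { carrier := {u | (u : R) ∈ K}
      one_mem' := K.one_mem
      mul_mem' := fun ha hb => K.mul_mem ha hb
      inv_mem' := fun ha => hinv _ ha }
  have hn : φ.range ≤ Subgroup.normalizer (UK : Set Rˣ) := by
    rintro _ ⟨g, rfl⟩
    exact Subgroup.mem_normalizer_fintype fun u hu => hK g u hu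
  let _ : Field K := hF.toField
  let Γ : Subgroup Rˣ := φ.range ⊔ UK
  let ι : Kˣ →* Γ := (Units.map K.subtype.toMonoidHom).codRestrict Γ fun u =>
    Subgroup.mem_sup_right u.1.2
  have hι : ι.range = UK.subgroupOf Γ := by
    ext u
    refine ⟨?_, fun hu => ⟨⟨⟨_, hu⟩, ⟨_, hinv _ hu⟩, Subtype.ext u.1.mul_inv,
      Subtype.ext u.1.inv_mul⟩, Subtype.ext (Units.ext rfl)⟩⟩
    rintro ⟨k, rfl⟩
    exact k.1.2
  have hN : ι.range.Normal := by
    rw [hι, Subgroup.normal_subgroupOf_iff_le_normalizer le_sup_right]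
    exact sup_le hn Subgroup.le_normalizer
  have hdec : ∀ b ∈ Γ, ∃ g : G, ∃ u ∈ UK, b = φ g * u := fun b hb => by
    have h1 : b ∈ ((φ.range ⊔ UK : Subgroup Rˣ) : Set Rˣ) := hb
    rw [Subgroup.coe_mul_of_left_le_normalizer_right _ _ hn] at h1
    obtain ⟨_, ⟨g, rfl⟩, u, hu, rfl⟩ := h1
    exact ⟨g, u, hu, rfl⟩
  let f : G →* Γ := φ.codRestrict Γ fun g => Subgroup.mem_sup_left ⟨g, rfl⟩
  have hf : Function.Surjective ((QuotientGroup.mk' ι.range).comp f) := fun b => by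
    obtain ⟨b, rfl⟩ := QuotientGroup.mk'_surjective _ b
    obtain ⟨g, u, hu, e⟩ := hdec b b.2
    refine ⟨g, QuotientGroup.eq.2 (hι ▸ ?_)⟩
    change (φ g)⁻¹ * b ∈ UK
    rwa [e, inv_mul_cancel_left]
  have hUK : U ≤ UK := fun u hu => Subring.subset_closure ⟨u, hu, rfl⟩
  have : Group.IsSolvable (Γ ⧸ ι.range) := Group.isSolvable_of_surjective hf
  refine ⟨K, inferInstance, inferInstance, inferInstance, Γ, inferInstance, inferInstance,
    Group.isSolvable_of_ker_le_range ι (QuotientGroup.mk' ι.range) (by rw [QuotientGroup.ker_mk']),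
    inferInstance, ⟨fun {a b} e => Subtype.ext (Units.ext (LinearMap.ext e))⟩,
    ⟨ι, fun _ _ => rfl, hN, fun B hB hc hle b hb => ?_⟩,
    f, fun _ _ => rfl, fun z hz => hι.ge (hUK (hZ ⟨z, hz, rfl⟩))⟩
  have h1 : U ≤ B.map Γ.subtype ⊓ φ.range := fun u hu =>
    ⟨⟨⟨u, Subgroup.mem_sup_right (hUK hu)⟩, hle (hι ▸ hUK hu), rfl⟩, hU.1.1 hu⟩
  have h2 := hU.2 (y := B.map Γ.subtype ⊓ φ.range) ⟨inf_le_right, ?_, ?_⟩ h1
  · obtain ⟨g, u, hu, e⟩ := hdec b b.2
    have h3 : φ g ∈ UK := hUK (h2 ⟨⟨b * ⟨u, Subgroup.mem_sup_right hu⟩⁻¹,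
      mul_mem hb (inv_mem (hle (hι ▸ hu))), by simp [e]⟩, g, rfl⟩)
    rw [hι]
    exact (e ▸ mul_mem h3 hu : (b : Rˣ) ∈ UK)
  · rintro g _ ⟨⟨c, hc, rfl⟩, hc'⟩
    exact ⟨⟨_, hB.conj_mem c hc (f g), rfl⟩, φ.range.mul_mem (φ.range.mul_mem ⟨g, rfl⟩ hc') (φ.range.inv_mem ⟨g, rfl⟩)⟩
  · rintro _ ⟨⟨c, hc', rfl⟩, -⟩ _ ⟨⟨d, hd, rfl⟩, -⟩
    exact congrArg Subtype.val (hc c hc' d hd)

end

variable {K V Γ G : Type*} [Field K] [AddCommGroup V] [Module K V] [Group Γ] [Group G]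
  [DistribMulAction Γ V] [Nontrivial V]

theorem exists_fixed [Finite K] [FaithfulSMul Γ V] (S : Setup K V Γ) (φ : G →* Γ) :
    ∃ (L : Subfield K) (f : ℕ), Nat.card K = Nat.card L ^ f ∧ (S.A.comap φ).index ≤ f ∧
      ∀ c : K, (∀ (g : G) (v : V), φ g • c • v = c • φ g • v) → c ∈ L := by
  obtain ⟨v, hv⟩ := exists_ne (0 : V)
  choose σ h0 hσ using S.exists_smul_smul
  have hg : ∀ g : Γ, g • v ≠ 0 := fun g e => hv ((smul_eq_zero_iff_eq g).1 e)
  let τ : Γ → K →+* K := fun g =>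
    { toFun := σ g
      map_one' := eq_of_smul_eq (hg g) (by rw [← hσ, one_smul, one_smul])
      map_mul' := fun a b => eq_of_smul_eq (hg g) (by rw [← hσ, mul_smul, hσ, hσ, mul_smul])
      map_zero' := (h0 g 0).2 rfl
      map_add' := fun a b => eq_of_smul_eq (hg g) (by
        rw [← hσ, add_smul, smul_add, hσ, hσ, add_smul]) }
  let L : Subfield K := ⨅ g : G, (τ (φ g)).eqLocusField (RingHom.id K)
  let ρ : G → K →ₐ[L] K := fun g => ⟨τ (φ g), fun x => Subfield.mem_iInf.1 x.2 g⟩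
  refine ⟨L, Module.finrank L K, Module.natCard_eq_pow_finrank,
    (Nat.card_le_card_of_injective (fun q : G ⧸ S.A.comap φ => ρ q.out) fun a b e => ?_).trans
    (card_algHom_le_finrank L K K), fun c hc => Subfield.mem_iInf.2 fun g =>
      eq_of_smul_eq (hg (φ g)) ((hσ _ _ _).symm.trans (hc g v))⟩
  rw [← a.out_eq, ← b.out_eq]
  refine QuotientGroup.eq.2 ?_
  rintro _ ⟨u, rfl⟩
  refine FaithfulSMul.eq_of_smul_eq_smul (α := V) fun w => ?_
  have e1 : σ (φ a.out) u = σ (φ b.out) u := DFunLike.congr_fun e (u : K)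
  rw [map_mul, map_inv, mul_smul, mul_smul, mul_smul, mul_smul, S.ι_smul, S.ι_smul, hσ,
    eq_inv_smul_iff, hσ, smul_inv_smul, e1]

theorem num_main' {x : ℚ} {p f n e m : ℕ} (h11 : 11 ≤ p) (hf : 0 < f)
    (hx0 : 0 ≤ x) (hm : 1 ≤ m) (hx : (3 * (m : ℚ) - 2) / (m : ℚ) ^ 2 ≤ x * (f : ℚ) ^ 2)
    (e0 : 0 < e) (en : e ≤ n) (e3 : e = 3 → 3 ∣ p ^ f - 1) (h8 : m ≤ e ^ 8)
    (hpr : e.Prime ∨ e = 6 → m ≤ e * e * ((e * e - 1) * e)) (h4 : e = 4 → m ≤ 1152)
    (h2 : e = 2 → m ≤ 16 ∨ m = 24) :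
    (f = 1 ∧ n = 1) ∨ 17 * (p : ℚ) ^ 2 ≤ 100 * x * (p : ℚ) ^ (f * n) ∨
      (f = 1 ∧ e = 2 ∧ n = 2 ∧ m = 24) := by
  have fin : ∀ (T : ℚ) (M : ℕ), m ≤ M → 0 ≤ T → T * (f : ℚ) ^ 2 * (p : ℚ) ^ 2 ≤ (p : ℚ) ^ (f * n) →
      17 * (M : ℚ) ^ 2 ≤ 100 * T * (3 * M - 2) →
      17 * (p : ℚ) ^ 2 ≤ 100 * x * (p : ℚ) ^ (f * n) := fun T M a b c d =>
    num_fin hm a hx0 (by positivity) b hx c d
  rcases Nat.eq_or_lt_of_le (e0.trans_le en : 1 ≤ n) with rfl | hn
  · rcases Nat.eq_or_lt_of_le (hf : 1 ≤ f) with rfl | hf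
    · exact Or.inl ⟨rfl, rfl⟩
    obtain ⟨t, rfl⟩ := Nat.exists_eq_add_of_le' hf
    obtain rfl : e = 1 := by omega
    refine Or.inr (Or.inl (fin (1 / 4) 1 (by simpa using h8) (by norm_num) ?_ (by norm_num)))
    have h1 : (t + 2) ^ 2 * p ^ 2 ≤ 4 * p ^ ((t + 2) * 1) := by
      calc _ ≤ 4 * p ^ t * p ^ 2 := Nat.mul_le_mul_right _ ((sq_le_four t).trans
            (Nat.mul_le_mul_left _ (Nat.pow_le_pow_left h11 t)))
        _ = _ := by ring
    have h2 := (Nat.cast_le (α := ℚ)).2 h1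
    push_cast at h2 ⊢
    linarith
  obtain ⟨s, rfl⟩ := Nat.exists_eq_add_of_le' hn
  right
  have T2 : 2 ≤ f → 3 * 11 ^ s * (f : ℚ) ^ 2 * (p : ℚ) ^ 2 ≤ (p : ℚ) ^ (f * (s + 2)) := fun h => by
    obtain ⟨t, rfl⟩ := Nat.exists_eq_add_of_le' h
    exact_mod_cast pow_bound h11
  have T0 : ∀ T : ℕ, T ≤ p ^ s → (T : ℚ) * ((1 : ℕ) : ℚ) ^ 2 * (p : ℚ) ^ 2 ≤
      (p : ℚ) ^ (1 * (s + 2)) := fun T h => by
    have : T * 1 ^ 2 * p ^ 2 ≤ p ^ (1 * (s + 2)) := by
      rw [one_pow, mul_one, one_mul, pow_add]; exact Nat.mul_le_mul_right _ h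
    exact_mod_cast this
  have T1 : 11 ^ s * (f : ℚ) ^ 2 * (p : ℚ) ^ 2 ≤ (p : ℚ) ^ (f * (s + 2)) := by
    rcases Nat.eq_or_lt_of_le (hf : 1 ≤ f) with rfl | hf
    · exact_mod_cast T0 _ (Nat.pow_le_pow_left h11 s)
    · refine le_trans ?_ (T2 hf)
      have : (0 : ℚ) ≤ 11 ^ s * (f : ℚ) ^ 2 * (p : ℚ) ^ 2 := by positivity
      linarith
  rcases Nat.lt_or_ge s 6 with hs | hs
  swap
  · obtain ⟨t, rfl⟩ := Nat.exists_eq_add_of_le' hs
    refine Or.inl (fin _ ((t + 8) ^ 8) (h8.trans (Nat.pow_le_pow_left en 8)) (by positivity) T1 ?_)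
    have h1 := (Nat.cast_le (α := ℚ)).2 (eight_le t)
    have h2 : (2 : ℚ) ≤ ((t + 8) ^ 8 : ℕ) := by
      exact_mod_cast (show 2 ≤ 8 ^ 8 by norm_num).trans (Nat.pow_le_pow_left (by omega) 8)
    have h3 : (0 : ℚ) ≤ 11 ^ (t + 6) := by positivity
    rw [Nat.cast_mul, Nat.cast_mul, Nat.cast_pow 11] at h1
    generalize (((t + 8) ^ 8 : ℕ) : ℚ) = M at *
    push_cast at h1
    nlinarith
  have b1 : e ≤ 2 → m ≤ 24 := fun h => by
    interval_cases e
    · omega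
    · rcases h2 rfl with h | h <;> omega
  have b3 : e ≤ 3 → m ≤ 216 := fun h => by
    rcases h.eq_or_lt with rfl | h
    · exact hpr (Or.inl Nat.prime_three)
    · have := b1 (by omega); omega
  have b4 : e ≤ 4 → m ≤ 1152 := fun h => by
    rcases h.eq_or_lt with rfl | h
    · exact h4 rfl
    · have := b3 (by omega); omega
  have b5 : e ≤ 5 → m ≤ 3000 := fun h => by
    rcases h.eq_or_lt with rfl | h
    · exact hpr (Or.inl Nat.prime_five)
    · have := b4 (by omega); omega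
  have b7 : e ≤ 7 → m ≤ 16464 := fun h => by
    obtain rfl | rfl | h : e = 7 ∨ e = 6 ∨ e ≤ 5 := by omega
    · exact hpr (Or.inl (by norm_num))
    · have := hpr (Or.inr rfl); omega
    · have := b5 h; omega
  interval_cases s
  · rcases Nat.eq_or_lt_of_le (hf : 1 ≤ f) with rfl | hf
    · by_cases h : m ≤ 16
      · exact Or.inl (fin _ _ h (by positivity) T1 (by norm_num))
      · obtain rfl | rfl : e = 1 ∨ e = 2 := by omega
        · omega
        · exact Or.inr ⟨rfl, rfl, rfl, (h2 rfl).resolve_left h⟩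
    · exact Or.inl (fin _ _ (b1 en) (by positivity) (T2 hf) (by norm_num))
  · left
    rcases en.eq_or_lt with rfl | h
    · rcases Nat.eq_or_lt_of_le (hf : 1 ≤ f) with rfl | hf
      · have h13 : 13 ≤ p := by
          have := e3 rfl
          rw [pow_one] at this
          by_contra h
          obtain rfl | rfl : p = 11 ∨ p = 12 := by omega
          · omega
          · omega
        exact fin _ _ (b3 le_rfl) (by positivity) (T0 13 (by simpa using h13)) (by norm_num)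
      · exact fin _ _ (b3 le_rfl) (by positivity) (T2 hf) (by norm_num)
    · exact fin _ _ (b1 (by omega)) (by positivity) T1 (by norm_num)
  · exact Or.inl (fin _ _ (b4 en) (by positivity) T1 (by norm_num))
  · exact Or.inl (fin _ _ (b5 en) (by positivity) T1 (by norm_num))
  · exact Or.inl (fin _ _ (b7 (by omega)) (by positivity) T1 (by norm_num))
  · exact Or.inl (fin _ _ (b7 en) (by positivity) T1 (by norm_num))

end Cfsg.Lib.KCl
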