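import Cfsg.Agent.KCl.Ext
import Cfsg.Agent.Class.A5Recog

/-! Orders of the linear part of a primitive solvable linear group. -/

set_option autoImplicit false

namespace Cfsg.Lib.KCl

open Subgroup Cfsg.Lib.Base Cfsg.Lib.Base.Setup

universe u

section

variable {K V : Type*} {Γ : Type u} [Field K] [AddCommGroup V] [Module K V] [Group Γ]
  [DistribMulAction Γ V] [Nontrivial V] [Finite Γ] [Group.IsSolvable Γ] [Finite K] [Finite V]

theorem exists_data (S : Setup K V Γ) : ∃ (N : Subgroup Γ) (Ω : Type u) (_ : AddCommGroup Ω)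
    (_ : Finite Ω) (_ : DistribMulAction (⊤ : Subgroup Γ) Ω) (pr : Γ → Ω)
    (B : Ω →+ Ω →+ Additive Kˣ) (e : ℕ), Big S N ∧ Sec N S.U ⊤ pr ∧
      (∀ a ∈ N, ∀ b ∈ N, B (pr a) (pr b) = Additive.ofMul (S.cm a b)) ∧ Nat.card Ω = e * e ∧
      0 < e ∧ e ≤ Module.finrank K V ∧ ∀ r, r.Prime → r ∣ e → r ∣ Nat.card Kˣ := by
  obtain ⟨N, h⟩ := exists_big S
  have := h.normal
  have := S.normal
  obtain ⟨Ω, _, _, _, pr, s⟩ := exists_sec (M := N) (C := S.U) (H := ⊤) h.comm
    (normalizer_eq_top N).ge (normalizer_eq_top S.U).ge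
  obtain ⟨B, hB⟩ := h.exists_form s
  obtain ⟨e, he⟩ := (h.symp s hB).card_sq
  refine ⟨N, Ω, _, ‹_›, _, pr, B, e, h, s, hB, he, Nat.pos_of_ne_zero fun e0 => ?_,
    Nat.mul_self_le_mul_self_iff.1 (he ▸ h.card_le_sq s hB),
    fun r hr hd => (h.symp s hB).dvd_card hr (he ▸ hd.mul_right e)⟩
  rw [e0] at he
  exact Nat.card_pos.ne' he

theorem A_le_U (S : Setup K V Γ)
    (h : ∀ r, r.Prime → r ∣ Nat.card Kˣ → Module.finrank K V < r) : S.A ≤ S.U := by
  obtain ⟨N, Ω, _, _, _, pr, B, e, hN, s, hB, h1, h2, h3, h4⟩ := exists_data S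
  have e1 : e = 1 := by
    by_contra h5
    obtain ⟨r, hr, hd⟩ := Nat.exists_prime_and_dvd h5
    exact absurd (h r hr (h4 r hr hd)) (not_lt.2 ((Nat.le_of_dvd h2 hd).trans h3))
  rw [e1] at h1
  have := (Nat.card_eq_one_iff_unique.1 h1).1
  intro g hg
  exact (s.eq_zero g ((hN.smul_eq_iff s hB ⟨g, trivial⟩ hg).1 fun _ => Subsingleton.elim _ _)).1
    (Subsingleton.elim _ _)

omit [Finite Γ] [Group.IsSolvable Γ] [Finite K] [Finite V] in
theorem card_U (S : Setup K V Γ) : Nat.card S.U = Nat.card K - 1 := by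
  rw [← Nat.card_units]
  exact (Nat.card_congr (MonoidHom.ofInjective ι_injective).toEquiv).symm

end

section

variable {G V : Type u} [Group G] [Finite G] [AddCommGroup V] [Finite V] [DistribMulAction G V]
  [FaithfulSMul G V]

theorem prim_sixteen (hG : Group.IsSolvable G) (h : Prim G V) (hV : Nat.card V = 16) :
    Nat.card G ≤ 60 := by
  obtain ⟨K, _, _, _, Γ, _, _, _, _, _, S, -, φ, hφ⟩ := h.exists_setup
  have := h.1.1
  have hi : Function.Injective φ := fun a b e =>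
    FaithfulSMul.eq_of_smul_eq_smul (α := V) fun v => by rw [← hφ, ← hφ, e]
  have h1 := Module.natCard_eq_pow_finrank (K := K) (V := V)
  have h0 : 0 < Module.finrank K V := Module.finrank_pos
  obtain ⟨f, hf, hK⟩ := (Nat.dvd_prime_pow Nat.prime_two (m := 4)).1
    (show Nat.card K ∣ 2 ^ 4 from (dvd_pow_self _ h0.ne').trans (h1.symm.trans hV).dvd)
  have h2 : f * Module.finrank K V = 4 :=
    Nat.pow_right_injective le_rfl (by simp only; rw [pow_mul, ← hK, ← h1, hV])
  have h3 := A_le_U S fun r hr hd => by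
    rw [Nat.card_units, hK] at hd
    have := hr.two_le
    interval_cases f
    · omega
    · exact absurd (Nat.le_of_dvd one_pos hd) (by omega)
    · have := (Nat.prime_dvd_prime_iff_eq hr Nat.prime_three).1 hd
      omega
    · omega
    · omega
  have h4 := index_A_le S Nat.prime_two hK
  have h5 := card_le_of_le h3
  rw [card_U, hK] at h5
  refine (Nat.card_le_card_of_injective φ hi).trans ?_
  rw [← S.A.index_mul_card]
  refine (Nat.mul_le_mul h4 h5).trans ?_
  interval_cases f <;> norm_num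

theorem irr_sixteen (hG : Group.IsSolvable G) (h : Irr G V) (hV : Nat.card V = 16) :
    Nat.card G ≤ 72 := by
  by_cases hp : Prim G V
  · exact (prim_sixteen hG hp hV).trans (by norm_num)
  obtain ⟨H, W, W', hH, hW, hd, hout, hW0⟩ := exists_blocks h hp
  have h1 := pow_le_card hd hout
  have h2 := card_le_core_mul h hW hW0
  have h3 := index_core_le_factorial H
  have h4 := (index_core_le hG hH).1
  have h5 := @card_im_le_factorial H W _ _ (resAct hW) _
  have h6 : 2 ≤ Nat.card W := (AddSubgroup.one_lt_card_iff_ne_bot W).2 hW0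
  replace h2 := h2.trans (Nat.mul_le_mul h3 (Nat.pow_le_pow_left h5 _))
  rw [hV] at h1
  generalize H.index = s at *
  generalize Nat.card W = w at *
  have h7 : s ≤ 4 := (Nat.pow_le_pow_iff_right (a := 2) (by norm_num)).1
    ((Nat.pow_le_pow_left h6 s).trans h1)
  have h8 : w ≤ 4 := (Nat.pow_le_pow_iff_left (n := 2) (by norm_num)).1
    ((Nat.pow_le_pow_right (by omega) h4).trans h1)
  interval_cases s <;> interval_cases w <;> simp [Nat.factorial] at h1 h2 <;> omega

end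

theorem Symp.card_im_sixteen {K : Type*} [Field K] [Finite K] {Γ Ω : Type u} [Group Γ]
    [AddCommGroup Ω] [Finite Ω] [DistribMulAction Γ Ω] {B : Ω →+ Ω →+ Additive Kˣ} (h : Symp Γ B)
    (hΓ : Group.IsSolvable Γ) (hΩ : Nat.card Ω = 16) : Nat.card (Im Γ Ω) ≤ 72 := by
  by_cases hi : Irr Γ Ω
  · exact @irr_sixteen _ _ _ _ _ _ (imAct Γ Ω) faithful_im (isSolvable_im hΓ) (Irr.im hi) hΩ
  have : Nontrivial Ω := Finite.one_lt_card_iff_nontrivial.1 (by omega)
  obtain ⟨T, hT, h1, h2⟩ : ∃ T : AddSubgroup Ω, Inv Γ T ∧ T ≠ ⊥ ∧ T ≠ ⊤ := by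
    by_contra hc
    exact hi ⟨this, fun T hT => by_contra fun h3 => hc ⟨T, hT, not_or.1 h3⟩⟩
  obtain ⟨T', hT', h3, h4⟩ := h.cr T hT
  have key : ∀ {T : AddSubgroup Ω} (hT : Inv Γ T), T ≠ ⊤ →
      Nat.card (@Im Γ T _ _ (resAct hT)) ≤ 6 := fun {T} hT h2 => by
    obtain ⟨e, he⟩ := h.card_inv hT
    have h5 : Nat.card T ∣ 16 := hΩ ▸ T.card_addSubgroup_dvd_card
    have h6 : Nat.card T ≠ 16 := fun e => h2 (T.eq_top_of_card_eq (e.trans hΩ.symm))
    refine (@card_im_le_factorial Γ T _ _ (resAct hT) _).trans ?_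
    rw [he] at h5 h6 ⊢
    have : e ≤ 4 := Nat.mul_self_le_mul_self_iff.1 (Nat.le_of_dvd (by norm_num) h5)
    interval_cases e <;> simp_all [Nat.factorial]
  let _ := resAct hT
  let _ := resAct hT'
  refine (card_im_le (fun g => ((MulAction.toPermHom Γ T).rangeRestrict g,
    (MulAction.toPermHom Γ T').rangeRestrict g)) fun g g' e v => ?_).trans ?_
  · obtain ⟨a, ha, b, hb, rfl⟩ := AddSubgroup.mem_sup.1 (h4 ▸ AddSubgroup.mem_top v)
    have e1 : g • a = g' • a := congrArg Subtype.val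
      (Equiv.congr_fun (congrArg Subtype.val (congrArg Prod.fst e)) ⟨a, ha⟩)
    have e2 : g • b = g' • b := congrArg Subtype.val
      (Equiv.congr_fun (congrArg Subtype.val (congrArg Prod.snd e)) ⟨b, hb⟩)
    rw [smul_add, smul_add, e1, e2]
  · rw [Nat.card_prod]
    exact (Nat.mul_le_mul (key hT h2) (key hT' fun e => h1 (by simpa [e] using h3))).trans
      (by norm_num)

variable {K V : Type*} {Γ : Type u} [Field K] [AddCommGroup V] [Module K V] [Group Γ]
  [DistribMulAction Γ V] [Nontrivial V] [Finite Γ] [Group.IsSolvable Γ] [Finite K] [Finite V]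

omit [Finite Γ] [Group.IsSolvable Γ] [Finite K] [Finite V] [Nontrivial V] in
theorem U_le_center (S : Setup K V Γ) : S.U.subgroupOf S.A ≤ center S.A := fun u hu =>
  mem_center_iff.2 fun g => Subtype.ext (g.2 u hu).symm

theorem setup_num (S : Setup K V Γ) : ∃ e, 0 < e ∧ e ≤ Module.finrank K V ∧
    (∀ r, r.Prime → r ∣ e → r ∣ Nat.card Kˣ) ∧ S.U.relIndex S.A ≤ e ^ 8 ∧
    (e.Prime ∨ e = 6 → S.U.relIndex S.A ≤ e * e * ((e * e - 1) * e)) ∧
    (e = 4 → S.U.relIndex S.A ≤ 1152) ∧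
    (e = 2 → S.U.relIndex S.A ≤ 16 ∨ (S.U.relIndex S.A = 24 ∧ 1 / 6 ≤ commProb S.A)) := by
  obtain ⟨N, Ω, _, _, _, pr, B, e, h, s, hB, h1, h2, h3, h4⟩ := exists_data S
  have hs := h.symp s hB
  have := S.normal
  let _ : DistribMulAction S.A Ω := DistribMulAction.compHom Ω (inclusion (le_top : S.A ≤ ⊤))
  have hker : ∀ g : S.A, (∀ ω : Ω, g • ω = ω) ↔ (g : Γ) ∈ N := fun g =>
    h.smul_eq_iff s hB ⟨g, trivial⟩ g.2
  have hm : S.U.relIndex S.A = e * e * Nat.card (Im S.A Ω) := by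
    have a1 : (MulAction.toPermHom S.A Ω).ker = N.subgroupOf S.A := by
      ext g
      exact Equiv.ext_iff.trans (hker g)
    have a2 := s.card_mul h.U_le le_rfl ⊤ fun ω => ⟨fun _ => s.surj ω, fun _ => trivial⟩
    rw [AddSubgroup.card_top, ← Solv.relIndex_mul_card_of_le h.U_le,
      Nat.mul_left_inj Nat.card_pos.ne'] at a2
    rw [← index_ker, a1, ← h1, a2, ← relIndex, relIndex_mul_relIndex _ _ _ h.U_le h.le_A]
  have hle : Nat.card (Im S.A Ω) ≤ Nat.card (Im (⊤ : Subgroup Γ) Ω) := card_le_of_le (by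
    rintro _ ⟨g, rfl⟩
    exact ⟨⟨g, trivial⟩, rfl⟩)
  have hinv : ∀ (g : S.A) (x y : Ω), B (g • x) (g • y) = B x y := fun g =>
    h.form_inv s hB ⟨g, trivial⟩ g.2
  refine ⟨e, h2, h3, h4, ?_, fun he => ?_, fun he => ?_, fun he => ?_⟩
  · obtain ⟨x, hx⟩ := (concl_of_primCase primCase inferInstance hs.cr).1
    have := card_im_le_of_base hx (fun _ => Set.univ) fun _ _ => trivial
    rw [Finset.prod_const, Nat.card_univ, h1, Finset.card_univ, Fintype.card_fin] at this
    rw [hm]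
    calc _ ≤ e * e * (e * e) ^ 3 := Nat.mul_le_mul_left _ (hle.trans this)
      _ = _ := by ring
  · rw [hm]
    refine Nat.mul_le_mul_left _ ?_
    rcases he with he | rfl
    · obtain ⟨x, y, -, h5⟩ := hs.exists_order he (h1 ▸ dvd_mul_right e e)
      exact card_im_le_pair hs.alt hinv he.one_lt h1 h5
    · obtain ⟨x, y, h5⟩ := hs.exists_order_six h1
      exact card_im_le_pair hs.alt hinv (by norm_num) h1 h5
  · subst he
    have := hle.trans (hs.card_im_sixteen inferInstance h1)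
    omega
  · subst he
    have a1 := card_im_le_factorial (G := S.A) (V := Ω)
    rw [h1, show Nat.factorial (2 * 2 - 1) = 6 from rfl] at a1
    have a2 : ∀ ω : Ω, 2 • ω = 0 := fun ω => hs.nsmul_eq_zero 2 ω (by
      rw [← mul_nsmul', ← h1, card_nsmul_eq_zero'])
    have a3 : ∀ q : S.A ⧸ S.U.subgroupOf S.A, q ^ 3 = 1 ∨ q ^ 4 = 1 := fun q => by
      obtain ⟨g, rfl⟩ := QuotientGroup.mk_surjective q
      rw [← QuotientGroup.mk_pow, ← QuotientGroup.mk_pow, QuotientGroup.eq_one_iff,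
        QuotientGroup.eq_one_iff]
      rcases aut_four h1 g with h5 | ⟨h5, h6⟩
      · have h7 := (hker _).1 h5
        refine Or.inr ?_
        rw [show g ^ 4 = (g ^ 2) ^ 2 by group]
        exact (s.eq_zero _ (pow_mem h7 2)).1 (by rw [s.pow h7, a2])
      · have h7 := (hker _).1 h5
        refine Or.inl ((s.eq_zero _ h7).1 (h6 _ ?_))
        have := s.conj ⟨g, trivial⟩ _ h7
        rw [show (g : Γ) * (g ^ 3 : S.A) * (g : Γ)⁻¹ = (g ^ 3 : S.A) by push_cast; group] at this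
        exact this.symm
    by_cases h5 : Nat.card (Im S.A Ω) ≤ 4
    · left; omega
    have h6 : Nat.card (Im S.A Ω) ≠ 5 := fun h6 => by
      have := Fact.mk Nat.prime_five
      obtain ⟨q, hq⟩ := exists_prime_orderOf_dvd_card' (G := S.A ⧸ S.U.subgroupOf S.A) 5
        (by change 5 ∣ S.U.relIndex S.A; omega)
      rcases a3 q with h7 | h7 <;> have := hq ▸ orderOf_dvd_of_pow_eq_one h7 <;> omega
    have h7 : S.U.relIndex S.A = 24 := by omega
    obtain ⟨φ⟩ := Class.nonempty_mulEquiv_S4_of_pow h7 a3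
    refine Or.inr ⟨h7, le_cp_S4 (φ.toMonoidHom.comp (QuotientGroup.mk' _))
      (φ.surjective.comp (QuotientGroup.mk'_surjective _)) fun g hg => U_le_center S ?_⟩
    simpa using hg

end Cfsg.Lib.KCl
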